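import Groth.Prelude.Def_Mor2
import Mathlib.AlgebraicGeometry.PullbackCarrier
import Mathlib.AlgebraicGeometry.Morphisms.QuasiCompact

/-!
# Uniform affine covers of fibre products
-/

set_option linter.style.haveILetI false

universe u

open CategoryTheory Limits AlgebraicGeometry TopologicalSpace

namespace Groth.Agent.H78.AffineCount

/-- An open cover of `Spec B` may be shrunk to principal opens. -/
lemma exists_basicOpen_shrink {B : CommRingCat.{u}} {m : ℕ} (U : Fin m → (Spec B).Opens)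
    (hU : ⨆ i, U i = ⊤) :
    ∃ b : Fin m → B, (∀ i, ∀ x : Spec B, x ∈ PrimeSpectrum.basicOpen (b i) → x ∈ U i) ∧
      ∀ x : Spec B, ∃ i, x ∈ PrimeSpectrum.basicOpen (b i) := by
  have hex : ∀ i, ∃ J : Ideal B,
      ∀ x : Spec B, x ∈ U i ↔ ∃ a ∈ J, x ∈ PrimeSpectrum.basicOpen a := by
    intro i
    obtain ⟨J, hJ⟩ := (PrimeSpectrum.isClosed_iff_zeroLocus_ideal _).mp (U i).2.isClosed_compl
    refine ⟨J, fun x => ?_⟩
    constructor
    · intro hx
      by_contra h
      push Not at h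
      have h1 : x ∈ (U i).carrierᶜ := by
        rw [hJ]
        intro a ha
        exact not_not.mp (h a ha)
      exact h1 hx
    · rintro ⟨a, ha, hxa⟩
      by_contra hx
      have h1 : x ∈ PrimeSpectrum.zeroLocus (J : Set B) := hJ ▸ hx
      exact hxa (h1 ha)
  choose J hJ using hex
  have htop : ⨆ i, J i = ⊤ := by
    by_contra h
    obtain ⟨p, hp, hle⟩ := Ideal.exists_le_maximal _ h
    let x : Spec B := (⟨p, hp.isPrime⟩ : PrimeSpectrum B)
    obtain ⟨i, hi⟩ := Opens.mem_iSup.mp (hU.ge (Set.mem_univ x : x ∈ (⊤ : (Spec B).Opens)))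
    obtain ⟨a, ha, hxa⟩ := (hJ i x).mp hi
    exact hxa (hle (le_iSup J i ha))
  obtain ⟨b, hb⟩ := (Submodule.mem_iSup_finset_iff_exists_sum (s := Finset.univ) J (1 : B)).mp
    (by simp [htop])
  refine ⟨fun i => b i, fun i x hx => (hJ i x).mpr ⟨_, (b i).2, hx⟩, fun x => ?_⟩
  by_contra h
  push Not at h
  have : (1 : B) ∈ x.asIdeal := hb ▸ Submodule.sum_mem _ fun i _ => not_not.mp (h i)
  exact x.isPrime.ne_top ((Ideal.eq_top_iff_one _).mpr this)

theorem exists_count {W Y : Scheme.{u}} (j : W ⟶ Y) [QuasiCompact j] [CompactSpace Y] :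
    ∃ m : ℕ, ∀ (B : CommRingCat.{u}) (g : Spec B ⟶ Y),
      ∃ U : Fin m → (pullback j g).Opens, (∀ k, IsAffineOpen (U k)) ∧ ⨆ k, U k = ⊤ := by
  obtain ⟨s, hs, hsY⟩ := isCompact_iff_finite_and_eq_biUnion_affineOpens.mp
    (show IsCompact ((⊤ : Y.Opens) : Set Y) from isCompact_univ)
  haveI : Fintype s := hs.fintype
  let e := (Fintype.equivFin s).symm
  let V : Fin (Fintype.card s) → Y.Opens := fun i => (e i).1.1
  have hVa : ∀ i, IsAffineOpen (V i) := fun i => (e i).1.2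
  have hVcov : ∀ y : Y, ∃ i, y ∈ V i := fun y => by
    have hy : y ∈ ((⊤ : Y.Opens) : Set Y) := trivial
    rw [hsY] at hy
    simp only [Opens.coe_iSup, Set.mem_iUnion] at hy
    obtain ⟨U, hU, hyU⟩ := hy
    exact ⟨e.symm ⟨U, hU⟩, by simpa [V] using hyU⟩
  have hW : ∀ i, ∃ (c : ℕ) (T : Fin c → W.Opens), (∀ l, IsAffineOpen (T l)) ∧
      (∀ l, T l ≤ j ⁻¹ᵁ V i) ∧ ∀ w : W, j w ∈ V i → ∃ l, w ∈ T l := fun i => by
    obtain ⟨t, ht, htW⟩ := isCompact_iff_finite_and_eq_biUnion_affineOpens.mp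
      (show IsCompact ((j ⁻¹ᵁ V i : W.Opens) : Set W) from
        j.isCompact_preimage (hVa i).isCompact)
    haveI : Fintype t := ht.fintype
    let e' := (Fintype.equivFin t).symm
    refine ⟨Fintype.card t, fun l => (e' l).1.1, fun l => (e' l).1.2, fun l => ?_, fun w hw => ?_⟩
    · rw [htW]
      exact le_iSup₂ (f := fun (U : W.affineOpens) (_ : U ∈ t) => U.1) (e' l).1 (e' l).2
    · have hw' : w ∈ ((j ⁻¹ᵁ V i : W.Opens) : Set W) := hw
      rw [htW] at hw'
      simp only [Opens.coe_iSup, Set.mem_iUnion] at hw'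
      obtain ⟨U, hU, hwU⟩ := hw'
      exact ⟨e'.symm ⟨U, hU⟩, by simpa using hwU⟩
  choose c T hTa hTle hTcov using hW
  refine ⟨Fintype.card (Σ i, Fin (c i)), fun B g => ?_⟩
  obtain ⟨b, hb, hbcov⟩ := exists_basicOpen_shrink (fun i => g ⁻¹ᵁ V i) (eq_top_iff.mpr fun x _ =>
    Opens.mem_iSup.mpr (hVcov (g x)))
  let D : Fin (Fintype.card s) → (Spec B).Opens := fun i => PrimeSpectrum.basicOpen (b i)
  let O : (Σ i, Fin (c i)) → (pullback j g).Opens := fun p =>
    (pullback.fst j g ⁻¹ᵁ T p.1 p.2) ⊓ (pullback.snd j g ⁻¹ᵁ D p.1)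
  have hO : ∀ p, IsAffineOpen (O p) := by
    rintro ⟨i, l⟩
    haveI : IsAffine ((T i l : W.Opens) : Scheme.{u}) := hTa i l
    haveI : IsAffine ((D i : (Spec B).Opens) : Scheme.{u}) := IsAffineOpen.Spec_basicOpen (b i)
    haveI : IsAffine ((V i : Y.Opens) : Scheme.{u}) := hVa i
    have h₁ : Set.range ((T i l).ι ≫ j) ⊆ Set.range (V i).ι := by
      rintro _ ⟨x, rfl⟩
      rw [Scheme.Opens.range_ι]
      exact hTle i l x.2
    have h₂ : Set.range ((D i).ι ≫ g) ⊆ Set.range (V i).ι := by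
      rintro _ ⟨x, rfl⟩
      rw [Scheme.Opens.range_ι]
      exact hb i x.1 x.2
    let φ := pullback.map (IsOpenImmersion.lift (V i).ι _ h₁) (IsOpenImmersion.lift (V i).ι _ h₂) j g
      (T i l).ι (D i).ι (V i).ι (IsOpenImmersion.lift_fac _ _ h₁) (IsOpenImmersion.lift_fac _ _ h₂)
    have : φ.opensRange = O ⟨i, l⟩ := by
      refine SetLike.coe_injective ?_
      change Set.range φ = _
      rw [Scheme.Pullback.range_map, Scheme.Opens.range_ι, Scheme.Opens.range_ι]
      rfl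
    rw [← this]
    exact isAffineOpen_opensRange φ
  refine ⟨fun k => O ((Fintype.equivFin _).symm k), fun k => hO _, eq_top_iff.mpr fun z _ => ?_⟩
  obtain ⟨i, hi⟩ := hbcov (pullback.snd j g z)
  have hz : j (pullback.fst j g z) ∈ V i := by
    rw [← Scheme.Hom.comp_apply, pullback.condition, Scheme.Hom.comp_apply]
    exact hb i _ hi
  obtain ⟨l, hl⟩ := hTcov i _ hz
  exact Opens.mem_iSup.mpr ⟨Fintype.equivFin _ ⟨i, l⟩,
    by beta_reduce; rw [Equiv.symm_apply_apply]; exact ⟨hl, hi⟩⟩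

end Groth.Agent.H78.AffineCount
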