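import Groth.Prelude.Def_Algz
import Groth.Prelude.Def_Cyc
import Mathlib.RingTheory.KrullDimension.Basic
import Mathlib.Algebra.BigOperators.Fin
import Mathlib.AlgebraicGeometry.Restrict

/-!
# The distance function of a closed subset
-/

set_option linter.unusedSectionVars false
set_option linter.unusedDecidableInType false

universe u

open AlgebraicGeometry CategoryTheory TopologicalSpace Algz

namespace Groth.Agent.H78.DeltaZ

section Codim

variable {Y : Type u} [TopologicalSpace Y]

lemma codimPt_congr {w v w' v' : Y} (hw : w = w') (hv : v = v') (h : w ⤳ v) (h' : w' ⤳ v') :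
    codimPt w v h = codimPt w' v' h' := by subst hw hv; rfl

lemma codimPt_self (v : Y) (h : v ⤳ v) : codimPt v v h = 0 := by
  rw [codimPt, Order.height_eq_zero]
  exact fun a _ => a.2

lemma one_le_codimPt [T0Space Y] {w v : Y} (h : w ⤳ v) (hne : w ≠ v) : 1 ≤ codimPt w v h := by
  rw [Order.one_le_iff_pos, pos_iff_ne_zero, codimPt, Ne, Order.height_eq_zero]
  intro hmin
  have : v ⤳ w → False := fun h' => hne (h.antisymm h').eq
  exact this ((hmin (b := ⟨Specialization.toEquiv v, Set.self_mem_Ici⟩) h).trans le_rfl)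

lemma codimPt_mono {w v v' : Y} (h : w ⤳ v) (hv : v ⤳ v') :
    codimPt w v h ≤ codimPt w v' (h.trans hv) :=
  Order.height_le_height_apply_of_strictMono
    (fun a : Set.Ici (Specialization.toEquiv v) =>
      (⟨a.1, le_trans (Specialization.toEquiv_le_toEquiv.mpr hv) a.2⟩ :
        Set.Ici (Specialization.toEquiv v')))
    (fun _ _ hab => hab) _

lemma codimPt_le_one [T0Space Y] {w v : Y} (h : w ⤳ v)
    (himm : ∀ z : Y, w ⤳ z → z ⤳ v → z = w ∨ z = v) : codimPt w v h ≤ 1 := by
  refine Order.height_le_coe_iff.mpr fun y hy => ?_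
  rcases himm (Specialization.ofEquiv y.1) hy.1 y.2 with e | e
  · refine absurd (Subtype.ext ?_) hy.ne
    exact e
  · rw [Order.height_eq_zero.mpr (fun a _ => by
      change (y.1 : Specialization Y) ≤ a.1
      exact le_trans (le_of_eq e) a.2)]
    exact_mod_cast Nat.zero_lt_one

end Codim

section Delta

variable {Y : Type u} [TopologicalSpace Y] {Z : Set Y} {y : Y} {k : ℕ} (S : DSystem Z y k)

/-- The `i`-th term of the value of a system. -/
noncomputable def term (i : Fin (k + 1)) : ℕ∞ :=
  (∑ j : Fin (k + 1), if i ≤ j then S.c j else 0) - ∑ j : Fin k, if i.val ≤ j.val then S.b j else 0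

lemma delta_eq : S.delta = (k : ℕ∞) + Finset.univ.sup (term S) := by
  unfold DSystem.delta term
  simp only [Finset.sum_filter]

lemma term_le (i : Fin (k + 1)) : term S i ≤ Finset.univ.sup (term S) :=
  Finset.le_sup (Finset.mem_univ i)

lemma deltaZ_le : deltaZ Z y ≤ S.delta := iInf₂_le k S

lemma term_last : term S (Fin.last k) = S.c (Fin.last k) := by
  unfold term
  rw [Finset.sum_eq_zero (s := (Finset.univ : Finset (Fin k))) (fun j _ => if_neg (by simp)),
    tsub_zero, Finset.sum_eq_single (Fin.last k) (fun j _ hj => if_neg ?_) (by simp), if_pos le_rfl]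
  exact fun h => hj (Fin.last_le_iff.mp h)

variable {y' : Y} (hy : y ⤳ y')

/-- `Fin.snoc` with constant motive. -/
def snocY {n : ℕ} (p : Fin n → Y) (a : Y) : Fin (n + 1) → Y := Fin.snoc (α := fun _ => Y) p a

@[simp] lemma snocY_castSucc {n : ℕ} (p : Fin n → Y) (a : Y) (i : Fin n) :
    snocY p a i.castSucc = p i := Fin.snoc_castSucc (α := fun _ => Y) a p i

@[simp] lemma snocY_last {n : ℕ} (p : Fin n → Y) (a : Y) : snocY p a (Fin.last n) = a :=
  Fin.snoc_last (α := fun _ => Y) a p

lemma c_congr {y₁ : Y} {k₁ : ℕ} (S₁ : DSystem Z y₁ k₁) {i : Fin (k₁ + 1)} {j : Fin (k + 1)}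
    (hw : S₁.w i = S.w j) (hv : S₁.v i = S.v j) : S₁.c i = S.c j :=
  codimPt_congr hw hv _ _

lemma b_congr {y₁ : Y} {k₁ : ℕ} (S₁ : DSystem Z y₁ k₁) {i : Fin k₁} {j : Fin k}
    (hw : S₁.w i.castSucc = S.w j.castSucc) (hv : S₁.v i.succ = S.v j.succ) : S₁.b i = S.b j :=
  codimPt_congr hw hv _ _

lemma c_eq_zero {i : Fin (k + 1)} (h : S.w i = S.v i) : S.c i = 0 :=
  (codimPt_congr h rfl _ (specializes_refl _)).trans (codimPt_self _ _)

/-- Append the point `y'` to a system for `y`. -/
def appendSys : DSystem Z y' (k + 1) where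
  v := snocY S.v y'
  w := snocY S.w y'
  spec i := by
    induction i using Fin.lastCases with
    | last => simp [specializes_refl]
    | cast i => simpa using S.spec i
  spec_succ i := by
    induction i using Fin.lastCases with
    | last => simpa [Fin.succ_last, S.last_eq] using hy
    | cast i => simpa [← Fin.castSucc_succ] using S.spec_succ i
  start_mem := by rw [← Fin.castSucc_zero, snocY_castSucc]; exact S.start_mem
  last_eq := snocY_last ..

lemma term_appendSys (i : Fin (k + 1)) :
    term (appendSys S hy) i.castSucc = term S i - codimPt y y' hy := by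
  unfold term
  rw [Fin.sum_univ_castSucc, Fin.sum_univ_castSucc
    (f := fun j => if (i.castSucc).val ≤ j.val then (appendSys S hy).b j else 0)]
  have hc : ∀ j : Fin (k + 1), (appendSys S hy).c j.castSucc = S.c j := fun j =>
    c_congr S _ (snocY_castSucc ..) (snocY_castSucc ..)
  have hb : ∀ j : Fin k, (appendSys S hy).b j.castSucc = S.b j := fun j =>
    b_congr S _ (snocY_castSucc ..)
      (by change snocY S.v y' j.castSucc.succ = _; rw [← Fin.castSucc_succ, snocY_castSucc])
  have hcl : (appendSys S hy).c (Fin.last (k + 1)) = 0 :=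
    c_eq_zero _ ((snocY_last ..).trans (snocY_last ..).symm)
  have hbl : (appendSys S hy).b (Fin.last k) = codimPt y y' hy :=
    codimPt_congr ((snocY_castSucc ..).trans S.last_eq)
      (by change snocY S.v y' (Fin.last k).succ = _; rw [Fin.succ_last, snocY_last]) _ _
  simp only [hc, hb, hcl, hbl, Fin.castSucc_le_castSucc_iff, Fin.val_castSucc, ite_self, add_zero,
    Fin.val_last]
  rw [if_pos (Nat.lt_succ_iff.mp i.isLt), tsub_add_eq_tsub_tsub]

variable [DecidableEq Y]

/-- Replace the last pair `(y, y)` of a system by `(y', y')`. -/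
def replaceSys (hv : S.v (Fin.last k) = y) (hZ : y ∈ Z → y' ∈ Z) : DSystem Z y' k where
  v := Function.update S.v (Fin.last k) y'
  w := Function.update S.w (Fin.last k) y'
  spec i := by
    rcases eq_or_ne i (Fin.last k) with rfl | hi
    · simp [specializes_refl]
    · simpa [hi] using S.spec i
  spec_succ i := by
    rw [Function.update_of_ne i.castSucc_lt_last.ne]
    rcases eq_or_ne i.succ (Fin.last k) with hi | hi
    · rw [hi, Function.update_self]
      exact (hv ▸ hi ▸ S.spec_succ i).trans hy
    · simpa [hi] using S.spec_succ i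
  start_mem := by
    rcases eq_or_ne (0 : Fin (k + 1)) (Fin.last k) with hi | hi
    · rw [hi, Function.update_self]
      exact hZ (hv ▸ hi ▸ S.start_mem)
    · simpa [hi] using S.start_mem
  last_eq := Function.update_self ..

lemma delta_replaceSys_le (hv : S.v (Fin.last k) = y) (hZ : y ∈ Z → y' ∈ Z) :
    (replaceSys S hy hv hZ).delta ≤ S.delta := by
  rw [delta_eq, delta_eq]
  refine add_le_add_right (Finset.sup_mono_fun fun i _ => tsub_le_tsub ?_ ?_) _
  · refine Finset.sum_le_sum fun j _ => ?_
    split_ifs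
    · rcases eq_or_ne j (Fin.last k) with rfl | hj
      · exact le_of_eq_of_le
          (c_eq_zero _ (by simp [replaceSys])) (zero_le)
      · exact le_of_eq (c_congr S _ (Function.update_of_ne hj ..) (Function.update_of_ne hj ..))
    · exact le_rfl
  · refine Finset.sum_le_sum fun j _ => ?_
    split_ifs
    · change codimPt _ _ _ ≤ codimPt _ _ _
      rcases eq_or_ne j.succ (Fin.last k) with hj | hj
      · refine (codimPt_mono (S.spec_succ j) (v' := y') (by rw [hj, hv]; exact hy)).trans_eq ?_
        exact codimPt_congr (Function.update_of_ne j.castSucc_lt_last.ne ..).symm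
          (by change y' = Function.update S.v _ y' j.succ; rw [hj, Function.update_self]) _ _
      · exact le_of_eq (codimPt_congr (Function.update_of_ne j.castSucc_lt_last.ne ..).symm
          (Function.update_of_ne hj ..).symm _ _)
    · exact le_rfl

theorem deltaZ_le_of_specializes [T0Space Y] (hZ : IsClosed Z) (h : y ⤳ y') :
    deltaZ Z y' ≤ deltaZ Z y := by
  rcases eq_or_ne y y' with rfl | hne
  · exact le_rfl
  refine le_iInf₂ fun k S => ?_
  by_cases hv : S.v (Fin.last k) = y
  · exact (deltaZ_le _).trans (delta_replaceSys_le S h hv fun hm => h.mem_closed hZ hm)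
  · refine (deltaZ_le (appendSys S h)).trans ?_
    rw [delta_eq, delta_eq, Nat.cast_succ, add_assoc]
    refine add_le_add_right ?_ _
    have h1 : 1 ≤ Finset.univ.sup (term S) := by
      refine le_trans ?_ (term_le S (Fin.last k))
      rw [term_last]
      exact one_le_codimPt _ fun e => hv (e.symm.trans S.last_eq)
    obtain ⟨i, -, hi⟩ := Finset.exists_mem_eq_sup Finset.univ Finset.univ_nonempty
      (term (appendSys S h))
    rw [hi]
    induction i using Fin.lastCases with
    | last =>
      rw [term_last, c_eq_zero _ ((snocY_last ..).trans (snocY_last ..).symm), add_zero]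
      exact h1
    | cast i =>
      rw [term_appendSys, add_comm]
      calc term S i - codimPt y y' h + 1 ≤ term S i - 1 + 1 := by
            gcongr; exact one_le_codimPt h hne
        _ = max (term S i) 1 := tsub_add_eq_max
        _ ≤ _ := max_le (term_le S i) h1

/-- The bound along a zigzag of immediate specializations. -/
theorem deltaZ_le_of_zigzag [T0Space Y] (k : ℕ) (p : Fin (k + 1) → Y) (p' : Fin k → Y)
    (h0 : p 0 ∈ Z)
    (hdown : ∀ i : Fin k, p' i ⤳ p i.castSucc ∧ p' i ≠ p i.castSucc ∧
      ∀ z : Y, p' i ⤳ z → z ⤳ p i.castSucc → z = p' i ∨ z = p i.castSucc)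
    (hup : ∀ i : Fin k, p' i ⤳ p i.succ ∧ p' i ≠ p i.succ) :
    deltaZ Z (p (Fin.last k)) ≤ k := by
  let S : DSystem Z (p (Fin.last k)) k :=
    { v := p
      w := snocY p' (p (Fin.last k))
      spec := fun i => by
        induction i using Fin.lastCases with
        | last => simp [specializes_refl]
        | cast i => simpa using (hdown i).1
      spec_succ := fun i => by simpa using (hup i).1
      start_mem := h0
      last_eq := snocY_last .. }
  refine (deltaZ_le S).trans ?_
  rw [delta_eq]
  refine (add_le_add_right (b := Finset.univ.sup (term S)) (c := 0) ?_ _).trans_eq (add_zero _)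
  refine Finset.sup_le fun i _ => tsub_eq_zero_of_le ?_ |>.le
  rw [Fin.sum_univ_castSucc]
  have hl : S.c (Fin.last k) = 0 :=
    c_eq_zero _ (snocY_last ..)
  simp only [hl, ite_self, add_zero]
  refine Finset.sum_le_sum fun j _ => ?_
  by_cases hij : i.val ≤ j.val
  · rw [if_pos (show i ≤ j.castSucc from hij), if_pos hij]
    calc S.c j.castSucc = codimPt _ _ (hdown j).1 :=
          codimPt_congr (snocY_castSucc ..) rfl _ _
      _ ≤ 1 := codimPt_le_one _ (hdown j).2.2
      _ ≤ codimPt _ _ (hup j).1 := one_le_codimPt _ (hup j).2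
      _ = S.b j := (codimPt_congr (snocY_castSucc ..) rfl _ _).symm
  · rw [if_neg (show ¬ i ≤ j.castSucc from hij), if_neg hij]

end Delta

section DimFun

variable {Y : Scheme.{u}} {δ : Y → ℤ}

lemma le_of_specializes (hδ : Cyc.IsDimFun Y δ) {a b : Y} (h : a ⤳ b) : δ b ≤ δ a := by
  rcases eq_or_ne a b with rfl | hne
  · rfl
  · exact (hδ a b h hne).1.le

lemma natCast_le_codimPt (hδ : Cyc.IsDimFun Y δ) {w v : Y} :
    ∀ (h : w ⤳ v), ((δ w - δ v).toNat : ℕ∞) ≤ codimPt w v h := by
  generalize hn : (δ w - δ v).toNat = n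
  induction n generalizing w with
  | zero => intro _; simp
  | succ n ih =>
    intro h
    have hne : w ≠ v := by rintro rfl; simp at hn
    -- a point strictly below `w`, above `v`, with maximal `δ`
    obtain ⟨z, ⟨hwz, hzv, hzw⟩, hmax⟩ :=
      Int.exists_greatest_of_bdd (P := fun m => ∃ z, (w ⤳ z ∧ z ⤳ v ∧ z ≠ w) ∧ δ z = m)
        ⟨δ w, fun m ⟨z, hz, e⟩ => e ▸ le_of_specializes hδ hz.1⟩
        ⟨δ v, v, ⟨h, specializes_refl v, hne.symm⟩, rfl⟩ |>.elim fun m hm => by
          obtain ⟨⟨z, hz, e⟩, hm⟩ := hm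
          exact (⟨z, hz, fun z' hz' => e ▸ hm _ ⟨z', hz', rfl⟩⟩ :
            ∃ z, (w ⤳ z ∧ z ⤳ v ∧ z ≠ w) ∧ ∀ z', (w ⤳ z' ∧ z' ⤳ v ∧ z' ≠ w) → δ z' ≤ δ z)
    have himm : δ w = δ z + 1 := (hδ w z hwz hzw.symm).2 fun z' h1 h2 => by
      by_contra hc
      push Not at hc
      have := hmax z' ⟨h1, h2.trans hzv, hc.1⟩
      exact absurd this (not_le.mpr (hδ z' z h2 hc.2).1)
    refine le_trans ?_ (Order.height_add_one_le
      (a := (⟨Specialization.toEquiv z, hzv⟩ : Set.Ici (Specialization.toEquiv v))) ?_)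
    · rw [Nat.cast_succ]
      exact add_le_add_left (ih (by omega) hzv) 1
    · refine lt_of_le_not_ge hwz fun h' => hzw ?_
      exact (Specializes.antisymm (h' : z ⤳ w) hwz).eq

lemma codimPt_eq (hδ : Cyc.IsDimFun Y δ) {w v : Y} (h : w ⤳ v) :
    codimPt w v h = ((δ w - δ v).toNat : ℕ∞) := by
  refine le_antisymm (Order.height_le fun p hp => ?_) (natCast_le_codimPt hδ h)
  norm_cast
  have key : ∀ i : Fin (p.length + 1),
      δ v + (i : ℕ) ≤ δ (Specialization.ofEquiv (p i).1) := by
    intro i
    induction i using Fin.induction with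
    | zero =>
      have := le_of_specializes hδ (a := Specialization.ofEquiv (p 0).1) (b := v) (p 0).2
      simp only [Fin.val_zero, Nat.cast_zero, add_zero]
      exact this
    | succ i ih =>
      have hlt := p.step i
      have h1 : Specialization.ofEquiv (p i.succ).1 ⤳ Specialization.ofEquiv (p i.castSucc).1 :=
        hlt.le
      have h2 := (hδ _ _ h1 fun e => hlt.ne (Subtype.ext e.symm)).1
      simp only [Fin.val_succ, Fin.val_castSucc, Nat.cast_add, Nat.cast_one] at ih ⊢
      omega
  have hl := key (Fin.last _)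
  have : (p (Fin.last _)).1 = Specialization.toEquiv w := congrArg Subtype.val hp
  rw [show p (Fin.last p.length) = p.last from rfl, hp] at hl
  simp only [Fin.val_last, Specialization.ofEquiv_toEquiv] at hl
  omega

theorem exists_dimFun_le {Z : Set Y} (hδ : Cyc.IsDimFun Y δ) (y : Y) (n : ℕ)
    (hn : deltaZ Z y = n) : ∃ z ∈ Z, δ y ≤ n + δ z := by
  obtain ⟨k, S, hS⟩ : ∃ (k : ℕ) (S : DSystem Z y k), S.delta ≤ n := by
    by_contra hc
    push Not at hc
    have : ((n + 1 : ℕ) : ℕ∞) ≤ deltaZ Z y := le_iInf₂ fun k S => by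
      rw [Nat.cast_succ]; exact ENat.add_one_le_iff (ENat.coe_ne_top n) |>.mpr (hc k S)
    rw [hn] at this
    exact absurd (ENat.coe_le_coe.mp this) (Nat.not_succ_le_self n)
  refine ⟨S.v 0, S.start_mem, ?_⟩
  have h1 := le_trans (add_le_add_right (term_le S 0) _) (le_of_eq_of_le (delta_eq S).symm hS)
  unfold term at h1
  simp only [DSystem.c, DSystem.b, codimPt_eq hδ, Fin.zero_le, if_true, Fin.val_zero,
    Nat.zero_le] at h1
  norm_cast at h1
  have hA := fun j => Int.toNat_of_nonneg (sub_nonneg.mpr (le_of_specializes hδ (S.spec j)))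
  have hB := fun j => Int.toNat_of_nonneg (sub_nonneg.mpr (le_of_specializes hδ (S.spec_succ j)))
  have hsum : ((∑ j, (δ (S.w j) - δ (S.v j)).toNat : ℕ) : ℤ) -
      ((∑ j : Fin k, (δ (S.w j.castSucc) - δ (S.v j.succ)).toNat : ℕ) : ℤ) = δ y - δ (S.v 0) := by
    push_cast
    simp only [hA, hB, Finset.sum_sub_distrib]
    rw [Fin.sum_univ_castSucc (f := fun j => δ (S.w j)), Fin.sum_univ_succ (f := fun j => δ (S.v j)),
      S.last_eq]
    ring
  omega

end DimFun

section Open

variable {Y : Scheme.{u}}

lemma codimPt_ι (U : Y.Opens) {w v : (U : Scheme.{u})} (h : w ⤳ v) (h' : U.ι w ⤳ U.ι v) :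
    codimPt (U.ι w) (U.ι v) h' = codimPt w v h := by
  have hemb := U.ι.isOpenEmbedding
  have hsp : ∀ {a b : (U : Scheme.{u})}, U.ι a ⤳ U.ι b ↔ a ⤳ b :=
    hemb.isInducing.specializes_iff
  let f : Set.Ici (Specialization.toEquiv v) → Set.Ici (Specialization.toEquiv (U.ι v)) := fun a =>
    ⟨Specialization.toEquiv (U.ι (Specialization.ofEquiv a.1)), hsp.mpr a.2⟩
  have hinj : Function.Injective f := fun a b e => by
    have e' : (U.ι (Specialization.ofEquiv a.1) : Y) = U.ι (Specialization.ofEquiv b.1) :=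
      congrArg (fun t : Set.Ici (Specialization.toEquiv (U.ι v)) => Specialization.ofEquiv t.1) e
    exact Subtype.ext (hemb.injective e')
  have hsurj : Function.Surjective f := fun b => by
    have hb : Specialization.ofEquiv b.1 ⤳ U.ι v := b.2
    have hm : Specialization.ofEquiv b.1 ∈ U := hb.mem_open U.2 v.2
    obtain ⟨a, ha⟩ : ∃ a, U.ι a = Specialization.ofEquiv b.1 :=
      ⟨⟨_, hm⟩, rfl⟩
    refine ⟨⟨Specialization.toEquiv a, hsp.mp (ha ▸ hb)⟩, Subtype.ext ?_⟩
    exact ha
  let e : Set.Ici (Specialization.toEquiv v) ≃o Set.Ici (Specialization.toEquiv (U.ι v)) :=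
    { Equiv.ofBijective f ⟨hinj, hsurj⟩ with
      map_rel_iff' := fun {a b} => hsp }
  have := Order.height_orderIso e ⟨Specialization.toEquiv w, Specialization.toEquiv_le_toEquiv.mpr h⟩
  exact this

theorem deltaZ_ι_le (U : Y.Opens) (Z : Set Y) (y' : (U : Scheme.{u})) :
    deltaZ Z (U.ι y') ≤ deltaZ ((fun x : (U : Scheme.{u}) => U.ι x) ⁻¹' Z) y' := by
  refine le_iInf₂ fun k S => ?_
  let S' : DSystem Z (U.ι y') k :=
    { v := fun i => U.ι (S.v i)
      w := fun i => U.ι (S.w i)
      spec := fun i => (S.spec i).map U.ι.continuous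
      spec_succ := fun i => (S.spec_succ i).map U.ι.continuous
      start_mem := S.start_mem
      last_eq := congrArg _ S.last_eq }
  refine (deltaZ_le S').trans_eq ?_
  have hc : ∀ i, S'.c i = S.c i := fun i => codimPt_ι U _ _
  have hb : ∀ i, S'.b i = S.b i := fun i => codimPt_ι U _ _
  rw [delta_eq, delta_eq, show term S' = term S from funext fun i => by simp only [term, hc, hb]]

end Open

end Groth.Agent.H78.DeltaZ
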