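import Mathlib.RingTheory.MvPowerSeries.Basic
import Mathlib.RingTheory.Adjoin.Basic
import Mathlib.RingTheory.Ideal.Quotient.Operations
import Mathlib.Data.Set.Countable
import Mathlib.Data.Finsupp.Encodable
import Mathlib.Algebra.MvPolynomial.Eval

/-!
# Sections over the formal disc of an affine scheme
-/

set_option autoImplicit false

universe u

open MvPowerSeries

noncomputable section

namespace Groth.Agent.H78.DiscSections

variable (k : Type u) [CommRing k] (σ : Type) (R : Type u) [CommRing R]
  [Algebra (MvPowerSeries σ k) R]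

/-- The free algebra on the coefficients. -/
abbrev Free : Type u := MvPolynomial (R × (σ →₀ ℕ)) k

/-- The universal family of coefficients of an element. -/
def w (r : R) : MvPowerSeries σ (Free k σ R) := fun a => MvPolynomial.X (r, a)

/-- The relations making `w` an algebra homomorphism. -/
def rel : Ideal (Free k σ R) :=
  Ideal.span ({x | ∃ r s a, x = coeff a (w k σ R (r + s) - (w k σ R r + w k σ R s))} ∪
    {x | ∃ r s a, x = coeff a (w k σ R (r * s) - w k σ R r * w k σ R s)} ∪
    {x | ∃ φ a, x = coeff a (w k σ R (algebraMap (MvPowerSeries σ k) R φ) -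
      MvPowerSeries.map (algebraMap k (Free k σ R)) φ)})

/-- The corepresenting algebra. -/
abbrev Coeffs : Type u := Free k σ R ⧸ rel k σ R

/-- The reduction map. -/
abbrev red : MvPowerSeries σ (Free k σ R) →+* MvPowerSeries σ (Coeffs k σ R) :=
  MvPowerSeries.map (Ideal.Quotient.mk (rel k σ R))

lemma red_eq {x y : MvPowerSeries σ (Free k σ R)} (h : ∀ a, coeff a (x - y) ∈ rel k σ R) :
    red k σ R x = red k σ R y := by
  ext a
  rw [coeff_map, coeff_map, Ideal.Quotient.eq, ← map_sub]
  exact h a

lemma red_add (r s : R) :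
    red k σ R (w k σ R (r + s)) = red k σ R (w k σ R r) + red k σ R (w k σ R s) := by
  rw [← map_add]
  exact red_eq k σ R fun a => Ideal.subset_span (Or.inl (Or.inl ⟨r, s, a, rfl⟩))

lemma red_mul (r s : R) :
    red k σ R (w k σ R (r * s)) = red k σ R (w k σ R r) * red k σ R (w k σ R s) := by
  rw [← map_mul]
  exact red_eq k σ R fun a => Ideal.subset_span (Or.inl (Or.inr ⟨r, s, a, rfl⟩))

lemma red_algebraMap (φ : MvPowerSeries σ k) :
    red k σ R (w k σ R (algebraMap (MvPowerSeries σ k) R φ)) =
      algebraMap (MvPowerSeries σ k) (MvPowerSeries σ (Coeffs k σ R)) φ := by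
  rw [red_eq k σ R (y := MvPowerSeries.map (algebraMap k (Free k σ R)) φ)
    fun a => Ideal.subset_span (Or.inr ⟨φ, a, rfl⟩)]
  ext a
  rw [coeff_map, coeff_map]
  show _ = coeff a (MvPowerSeries.map (algebraMap k (Coeffs k σ R)) φ)
  rw [coeff_map]
  rfl

/-- The universal section. -/
def univSect : R →ₐ[MvPowerSeries σ k] MvPowerSeries σ (Coeffs k σ R) where
  toFun r := red k σ R (w k σ R r)
  map_one' := by rw [← map_one (algebraMap (MvPowerSeries σ k) R), red_algebraMap, map_one]
  map_mul' := red_mul k σ R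
  map_zero' := by
    show red k σ R (w k σ R 0) = 0
    rw [← map_zero (algebraMap (MvPowerSeries σ k) R), red_algebraMap, map_zero]
  map_add' := red_add k σ R
  commutes' := red_algebraMap k σ R

lemma coeff_univSect (r : R) (a : σ →₀ ℕ) :
    coeff a (univSect k σ R r) = Ideal.Quotient.mkₐ k (rel k σ R) (MvPolynomial.X (r, a)) := by
  show coeff a (red k σ R (w k σ R r)) = _
  rw [coeff_map]
  rfl

theorem existsUnique_hom (Q : Type u) [CommRing Q] [Algebra k Q]
    (f : R →ₐ[MvPowerSeries σ k] MvPowerSeries σ Q) :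
    ∃! g : Coeffs k σ R →ₐ[k] Q,
      (MvPowerSeries.map (σ := σ) (g : Coeffs k σ R →+* Q)).comp
        (univSect k σ R : R →+* MvPowerSeries σ (Coeffs k σ R)) = (f : R →+* MvPowerSeries σ Q) := by
  let g₀ : Free k σ R →ₐ[k] Q := MvPolynomial.aeval fun p => coeff p.2 (f p.1)
  have hg : ∀ r, MvPowerSeries.map (σ := σ) (g₀ : Free k σ R →+* Q) (w k σ R r) = f r := fun r => by
    ext a
    rw [coeff_map]
    exact MvPolynomial.aeval_X _ (r, a)
  have hrel : rel k σ R ≤ RingHom.ker (g₀ : Free k σ R →+* Q) := by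
    refine Ideal.span_le.mpr ?_
    rintro x ((⟨r, s, a, rfl⟩ | ⟨r, s, a, rfl⟩) | ⟨φ, a, rfl⟩) <;>
      (rw [SetLike.mem_coe, RingHom.mem_ker, ← coeff_map])
    · rw [map_sub, map_add (MvPowerSeries.map _), hg, hg, hg, map_add, sub_self, map_zero]
    · rw [map_sub, map_mul (MvPowerSeries.map _), hg, hg, hg, map_mul, sub_self, map_zero]
    · rw [map_sub, hg, AlgHom.commutes, map_sub, sub_eq_zero]
      show coeff a (MvPowerSeries.map (algebraMap k Q) φ) = _
      rw [coeff_map, coeff_map, coeff_map]
      exact (g₀.commutes _).symm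
  refine ⟨Ideal.Quotient.liftₐ (rel k σ R) g₀ (fun x hx => hrel hx), ?_, fun g' hg' => ?_⟩
  · refine RingHom.ext fun r => ?_
    rw [RingHom.comp_apply]
    show MvPowerSeries.map _ (red k σ R (w k σ R r)) = f r
    rw [← hg r]
    ext a
    rw [coeff_map, coeff_map, coeff_map]
    rfl
  · refine Ideal.Quotient.algHom_ext k (MvPolynomial.algHom_ext fun p => ?_)
    have h := congrArg (coeff p.2) (DFunLike.congr_fun hg' p.1)
    rw [RingHom.comp_apply, coeff_map] at h
    refine Eq.trans ?_ (h.trans (MvPolynomial.aeval_X (fun p : R × (σ →₀ ℕ) => coeff p.2 (f p.1)) p).symm)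
    show g' _ = g' _
    exact congrArg g' (coeff_univSect k σ R p.1 p.2).symm

theorem exists_countable [Countable σ] (s : Set R) (hs : s.Countable)
    (hgen : Algebra.adjoin (MvPowerSeries σ k) s = ⊤) :
    ∃ t : Set (Coeffs k σ R), t.Countable ∧ Algebra.adjoin k t = ⊤ := by
  let t : Set (Coeffs k σ R) :=
    (fun p => Ideal.Quotient.mkₐ k (rel k σ R) (MvPolynomial.X p)) '' (s ×ˢ Set.univ)
  refine ⟨t, (hs.prod Set.countable_univ).image _, ?_⟩
  have hmem : ∀ (r : R) (a : σ →₀ ℕ), coeff a (univSect k σ R r) ∈ Algebra.adjoin k t := by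
    intro r
    have hr : r ∈ Algebra.adjoin (MvPowerSeries σ k) s := hgen ▸ Algebra.mem_top
    induction hr using Algebra.adjoin_induction with
    | mem x hx =>
      intro a
      rw [coeff_univSect]
      exact Algebra.subset_adjoin ⟨(x, a), ⟨hx, trivial⟩, rfl⟩
    | algebraMap φ =>
      intro a
      rw [AlgHom.commutes]
      show coeff a (MvPowerSeries.map (algebraMap k (Coeffs k σ R)) φ) ∈ _
      rw [coeff_map]
      exact Subalgebra.algebraMap_mem _ _
    | add x y _ _ hx hy =>
      intro a
      rw [map_add, map_add]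
      exact add_mem (hx a) (hy a)
    | mul x y _ _ hx hy =>
      intro a
      classical
      rw [map_mul, coeff_mul]
      exact sum_mem fun p _ => mul_mem (hx p.1) (hy p.2)
  refine Algebra.eq_top_iff.mpr fun x => ?_
  obtain ⟨y, rfl⟩ := Ideal.Quotient.mkₐ_surjective k (rel k σ R) x
  induction y using MvPolynomial.induction_on with
  | C c => exact Subalgebra.algebraMap_mem (Algebra.adjoin k t) c
  | add p q hp hq => rw [map_add]; exact add_mem hp hq
  | mul_X p i hp =>
    rw [map_mul]
    exact mul_mem hp (coeff_univSect k σ R i.1 i.2 ▸ hmem i.1 i.2)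

end Groth.Agent.H78.DiscSections
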