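import Mathlib.RingTheory.Flat.EquationalCriterion
import Mathlib.RingTheory.Flat.FaithfullyFlat.Algebra
import Mathlib.RingTheory.UniqueFactorizationDomain.GCDMonoid
import Mathlib.RingTheory.LocalRing.RingHom.Basic

/-!
# Least common multiples descend along flat local homomorphisms
-/

namespace Groth.Agent.H78.FlatLcm

variable {A B : Type*} [CommRing A] [CommRing B] [IsLocalRing A] [IsLocalRing B] [Algebra A B]
  [IsLocalHom (algebraMap A B)] [Module.Flat A B] [IsDomain B] [UniqueFactorizationMonoid B]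

theorem exists_lcm [IsDomain A] (hinj : Function.Injective (algebraMap A B)) {p a : A} (hp : p ≠ 0)
    (ha : a ≠ 0) : ∃ l : A, ∀ x : A, (p ∣ x ∧ a ∣ x) ↔ l ∣ x := by
  letI : GCDMonoid B := (UniqueFactorizationMonoid.toGCDMonoid B)
  set L := lcm (algebraMap A B p) (algebraMap A B a)
  have hL : L ≠ 0 := lcm_ne_zero_iff.mpr
    ⟨(map_ne_zero_iff _ hinj).mpr hp, (map_ne_zero_iff _ hinj).mpr ha⟩
  obtain ⟨y, hy⟩ := dvd_lcm_left (algebraMap A B p) (algebraMap A B a)
  obtain ⟨z, hz⟩ := dvd_lcm_right (algebraMap A B p) (algebraMap A B a)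
  have hrel : ∑ i, ![p, -a] i • ![y, z] i = 0 := by
    simp [Fin.sum_univ_two, Algebra.smul_def, ← hy, ← hz, L]
  obtain ⟨k, c, w, hxw, hc⟩ := Module.Flat.isTrivialRelation_of_sum_smul_eq_zero hrel
  have hdvd : ∀ j, L ∣ algebraMap A B (p * c 0 j) := fun j => by
    refine lcm_dvd (by rw [map_mul]; exact dvd_mul_right _ _) ⟨algebraMap A B (c 1 j), ?_⟩
    have h := hc j
    simp [Fin.sum_univ_two, add_neg_eq_zero] at h
    rw [h, map_mul]
  choose d hd using hdvd
  have hone : ∑ j, d j * w j = 1 := by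
    refine mul_left_cancel₀ hL ?_
    rw [mul_one, Finset.mul_sum]
    conv_rhs => rw [show L = algebraMap A B p * y from hy,
      show y = ∑ j, c 0 j • w j from hxw 0, Finset.mul_sum]
    refine Finset.sum_congr rfl fun j _ => ?_
    rw [← mul_assoc, ← hd, map_mul, Algebra.smul_def, mul_assoc]
  obtain ⟨j, hj⟩ : ∃ j, IsUnit (d j) := by
    by_contra h
    push Not at h
    have : (1 : B) ∈ IsLocalRing.maximalIdeal B :=
      hone ▸ Submodule.sum_mem _ fun j _ => Ideal.mul_mem_right _ _ (h j)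
    exact (IsLocalRing.maximalIdeal B).ne_top_iff_one.mp (IsLocalRing.maximalIdeal.isMaximal B).ne_top this
  have hlL : algebraMap A B (p * c 0 j) ∣ L := by
    obtain ⟨v, hv⟩ := hj
    rw [hd j, ← hv, Units.mul_right_dvd]
  have hpa : p ∣ p * c 0 j ∧ a ∣ p * c 0 j := by
    refine ⟨dvd_mul_right _ _, c 1 j, ?_⟩
    have h := hc j
    simpa [Fin.sum_univ_two, add_neg_eq_zero] using h
  refine ⟨p * c 0 j, fun x => ⟨fun ⟨h1, h2⟩ => ?_, fun h => ⟨hpa.1.trans h, hpa.2.trans h⟩⟩⟩
  have hx : algebraMap A B (p * c 0 j) ∣ algebraMap A B x :=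
    hlL.trans (lcm_dvd (map_dvd _ h1) (map_dvd _ h2))
  haveI : Module.FaithfullyFlat A B := Module.FaithfullyFlat.of_flat_of_isLocalHom
  rw [← Ideal.mem_span_singleton, ← Ideal.comap_map_eq_self_of_faithfullyFlat (B := B)
    (Ideal.span {p * c 0 j}), Ideal.mem_comap, Ideal.map_span, Set.image_singleton,
    Ideal.mem_span_singleton]
  exact hx

end Groth.Agent.H78.FlatLcm
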