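import Groth.Agent.Lib.CohBasics.Affine
import Mathlib.AlgebraicGeometry.Modules.Tilde

/-!
# Counting generators of a module from generators on a cover
-/

set_option linter.style.haveILetI false

universe u

open CategoryTheory Limits AlgebraicGeometry Opposite TopologicalSpace

namespace Groth.Agent.H78.GenCount

open Groth.Agent.Lib

variable {X : Scheme.{u}} {M : X.Modules}

/-- Sections on an open `V` spanning the stalks there, from an epimorphism out of a free module. -/
lemma exists_sections_of_epi {n : ℕ} (V : X.Opens)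
    (φ : FlatMod.freeMod (↑V) n ⟶ M.restrict V.ι) [Epi φ] :
    ∃ s : Fin n → Γ(M, V), ∀ (x : X) (hx : x ∈ V),
      Submodule.span (X.presheaf.stalk x) (M.presheaf.germ V x hx '' Set.range s) = ⊤ := by
  have htop : V.ι ''ᵁ ⊤ = V := V.ι_image_top
  refine ⟨fun i => M.presheaf.map (eqToHom htop.symm).op (φ.app ⊤ (Modules.Free.gen _ i)),
    fun x hx => ?_⟩
  let y : (V : Scheme.{u}) := ⟨x, hx⟩
  have hs : Function.Surjective (Modules.StalkModule.stalkMapₗ φ y) :=
    (Modules.StalkModule.epi_iff_stalkMapₗ_surjective φ).mp inferInstance y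
  have h1 : Submodule.span ((V : Scheme.{u}).presheaf.stalk y) (Set.range fun i =>
      (M.restrict V.ι).presheaf.germ ⊤ y trivial (φ.app ⊤ (Modules.Free.gen _ i))) = ⊤ := by
    have h := congrArg (Submodule.map (Modules.StalkModule.stalkMapₗ φ y))
      (Modules.Free.span_germ_gen (X := (V : Scheme.{u})) (n := n) y)
    rw [Submodule.map_span, Submodule.map_top, LinearMap.range_eq_top.mpr hs, ← Set.range_comp] at h
    rw [← h]
    exact congrArg (fun F => Submodule.span _ (Set.range F))
      (funext fun i => (Modules.StalkModule.stalkMapₗ_germ φ _ _).symm)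
  refine eq_top_iff.mpr fun w _ => ?_
  obtain ⟨v, rfl⟩ := (Modules.StalkRestrict.restrictStalkAddEquiv V.ι M y).surjective w
  have h2 := (Set.ext_iff.mp (Modules.StalkRestrict.span_image_restrictStalkAddEquiv V.ι M y _) _).mpr
    ⟨v, h1 ▸ (Submodule.mem_top : v ∈ ⊤), rfl⟩
  refine Submodule.span_mono ?_ h2
  rintro _ ⟨_, ⟨i, rfl⟩, rfl⟩
  refine ⟨_, ⟨i, rfl⟩, ?_⟩
  refine Eq.trans ?_
    (Modules.StalkRestrict.restrictStalkAddEquiv_germ V.ι M (U := ⊤) (x := y) trivial _).symm
  exact TopCat.Presheaf.germ_res_apply _ _ _ _ _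

theorem exists_generators (R : CommRingCat.{u}) (M : ModuleCat.{u} R) (n m : ℕ)
    (U : Fin m → (Spec R).Opens) (hU : ⨆ i, U i = ⊤)
    (hgen : ∀ i, ∃ φ : FlatMod.freeMod (↑(U i)) n ⟶ (tilde M).restrict (U i).ι, Epi φ) :
    ∃ s : Fin (n * m) → M, Submodule.span R (Set.range s) = ⊤ := by
  -- shrink the opens to principal ones
  have hex : ∀ i, ∃ J : Ideal R,
      ∀ x : Spec R, x ∈ U i ↔ ∃ a ∈ J, x ∈ PrimeSpectrum.basicOpen a := by
    intro i
    obtain ⟨J, hJ⟩ := (PrimeSpectrum.isClosed_iff_zeroLocus_ideal _).mp (U i).2.isClosed_compl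
    refine ⟨J, fun x => ?_⟩
    constructor
    · intro hx
      by_contra h
      push Not at h
      have h1 : x ∈ (U i).carrierᶜ := by
        rw [hJ]
        intro a ha
        exact not_not.mp (h a ha)
      exact h1 hx
    · rintro ⟨a, ha, hxa⟩
      by_contra hx
      have h1 : x ∈ PrimeSpectrum.zeroLocus (J : Set R) := hJ ▸ hx
      exact hxa (h1 ha)
  choose J hJ using hex
  have htop : ⨆ i, J i = ⊤ := by
    by_contra h
    obtain ⟨p, hp, hle⟩ := Ideal.exists_le_maximal _ h
    let x : Spec R := (⟨p, hp.isPrime⟩ : PrimeSpectrum R)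
    obtain ⟨i, hi⟩ := Opens.mem_iSup.mp (hU.ge (Set.mem_univ x : x ∈ (⊤ : (Spec R).Opens)))
    obtain ⟨a, ha, hxa⟩ := (hJ i x).mp hi
    exact hxa (hle (le_iSup J i ha))
  obtain ⟨a, ha1⟩ := (Submodule.mem_iSup_finset_iff_exists_sum (s := Finset.univ) J (1 : R)).mp
    (by simp [htop])
  choose φ hφ using hgen
  have hsec : ∀ i, ∃ t : Fin n → Γ(tilde M, ⊤), ∀ (x : Spec R),
      x ∈ PrimeSpectrum.basicOpen (a i : R) →
        Submodule.span ((Spec R).presheaf.stalk x)
          ((tilde M).presheaf.germ ⊤ x trivial '' Set.range t) = ⊤ := by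
    intro i
    haveI := hφ i
    obtain ⟨s, hs⟩ := exists_sections_of_epi (U i) (φ i)
    set f : Γ(Spec R, ⊤) := (Scheme.ΓSpecIso R).inv (a i : R) with hf
    have hfa : (Spec R).basicOpen f = PrimeSpectrum.basicOpen (a i : R) := by
      rw [hf, basicOpen_eq_of_affine']
      simp <;> rfl
    have hfU : (Spec R).basicOpen f ≤ U i := fun x hx =>
      (hJ i x).mpr ⟨_, (a i).2, hfa ▸ hx⟩
    choose k t ht using fun j => (QCoh.Localizing.localizes_of_isAffineOpen (tilde M)
      (isAffineOpen_top (Spec R)) f).ext' (QCoh.Localizing.res (tilde M) hfU (s j))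
    refine ⟨t, fun x hx => ?_⟩
    have hxf : x ∈ (Spec R).basicOpen f := hfa ▸ hx
    rw [eq_top_iff, ← hs x (hfU hxf), Submodule.span_le]
    rintro _ ⟨_, ⟨j, rfl⟩, rfl⟩
    have hu : IsUnit ((Spec R).presheaf.germ ((Spec R).basicOpen f) x hxf
        (QCoh.Localizing.resR ((Spec R).basicOpen_le f) f) ^ k j) := by
      refine IsUnit.pow _ ?_
      rw [show (Spec R).presheaf.germ ((Spec R).basicOpen f) x hxf
          (QCoh.Localizing.resR ((Spec R).basicOpen_le f) f) =
        (Spec R).presheaf.germ ⊤ x trivial f from TopCat.Presheaf.germ_res_apply _ _ _ hxf f]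
      exact ((Spec R).mem_basicOpen f x trivial).mp hxf
    refine (Submodule.smul_mem_iff_of_isUnit _ hu).mp ?_
    have h1 : (tilde M).presheaf.germ ⊤ x trivial (t j) =
        (Spec R).presheaf.germ ((Spec R).basicOpen f) x hxf
          (QCoh.Localizing.resR ((Spec R).basicOpen_le f) f) ^ k j •
          (tilde M).presheaf.germ (U i) x (hfU hxf) (s j) := by
      rw [← TopCat.Presheaf.germ_res_apply (tilde M).presheaf
        (homOfLE ((Spec R).basicOpen_le f)) x hxf (t j)]
      erw [ht j]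
      rw [Modules.StalkModule.germ_smul, map_pow]
      congr 1
      exact TopCat.Presheaf.germ_res_apply _ _ _ hxf _
    rw [← h1]
    exact Submodule.subset_span ⟨_, ⟨j, rfl⟩, rfl⟩
  choose t ht using hsec
  let t' : Fin (n * m) → Γ(tilde M, ⊤) := fun l => t (finProdFinEquiv.symm l).2 (finProdFinEquiv.symm l).1
  have hspan : Submodule.span Γ(Spec R, ⊤) (Set.range t') = ⊤ := by
    refine CohBasics.Affine.span_eq_top_of_germ (isAffineOpen_top (Spec R)) _ fun x _ => ?_
    have hcov : ∃ i, x ∈ PrimeSpectrum.basicOpen (a i : R) := by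
      by_contra h
      push Not at h
      have : (1 : R) ∈ x.asIdeal := ha1 ▸ Submodule.sum_mem _ fun i _ => not_not.mp (h i)
      exact x.isPrime.ne_top ((Ideal.eq_top_iff_one _).mpr this)
    obtain ⟨i, hi⟩ := hcov
    rw [eq_top_iff, ← ht i x hi]
    refine Submodule.span_mono (Set.image_mono ?_)
    rintro _ ⟨j, rfl⟩
    exact ⟨finProdFinEquiv (j, i),
      congrArg (fun p : Fin n × Fin m => t p.2 p.1) (Equiv.symm_apply_apply _ _)⟩
  let e : M →ₗ[R] Γ(tilde M, ⊤) := (tilde.toOpen M ⊤).hom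
  have he : Function.Bijective e := ConcreteCategory.bijective_of_isIso (tilde.toOpen M ⊤)
  choose s hs using fun l => he.2 (t' l)
  refine ⟨s, eq_top_iff.mpr fun y _ => ?_⟩
  have hy : e y ∈ (Submodule.span R (Set.range s)).map e := by
    have hall : ∀ w : Γ(tilde M, ⊤), w ∈ (Submodule.span R (Set.range s)).map e := by
      intro w
      have hmem : w ∈ Submodule.span Γ(Spec R, ⊤) (Set.range t') := hspan ▸ Submodule.mem_top
      induction hmem using Submodule.span_induction with
      | mem z hz =>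
        obtain ⟨l, rfl⟩ := hz
        exact ⟨s l, Submodule.subset_span ⟨l, rfl⟩, hs l⟩
      | zero => exact zero_mem _
      | add _ _ _ _ h₁ h₂ => exact add_mem h₁ h₂
      | smul c z _ h =>
        obtain ⟨r, rfl⟩ := (ConcreteCategory.bijective_of_isIso (Scheme.ΓSpecIso R).inv).2 c
        exact Submodule.smul_mem _ r h
    exact hall (e y)
  obtain ⟨y', hy', e'⟩ := hy
  exact he.1 e' ▸ hy'

end Groth.Agent.H78.GenCount
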