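import Mathlib.CategoryTheory.Monoidal.Rigid.Basic
import Mathlib.Algebra.Category.ModuleCat.Monoidal.Basic
import Mathlib.RingTheory.Finiteness.Projective
import Mathlib.LinearAlgebra.Contraction

/-!
# Finite projective modules are dualizable
-/

universe u

open CategoryTheory MonoidalCategory TensorProduct

namespace Groth.Agent.H78.ModDual

variable (R : Type u) [CommRing R] (M : Type u) [AddCommGroup M] [Module R M]

/-- A dual basis of a finite projective module. -/
lemma exists_dualBasis [Module.Finite R M] [Module.Projective R M] :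
    ∃ (n : ℕ) (e : Fin n → M) (φ : Fin n → Module.Dual R M), ∀ x, ∑ i, φ i x • e i = x := by
  obtain ⟨n, f, g, -, -, hfg⟩ := Module.Finite.exists_comp_eq_id_of_projective R M
  classical
  refine ⟨n, fun i => f (Pi.single i 1), fun i => (LinearMap.proj i).comp g, fun x => ?_⟩
  have h : g x = ∑ i, g x i • (Pi.single i (1 : R) : Fin n → R) := pi_eq_sum_univ' (g x)
  calc ∑ i, g x i • f (Pi.single i 1) = f (g x) := by
        conv_rhs => rw [h, map_sum]
        simp only [map_smul]
    _ = x := LinearMap.congr_fun hfg x

variable {R M} {n : ℕ} (e : Fin n → M) (φ : Fin n → Module.Dual R M)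

/-- The coevaluation given by a dual basis. -/
noncomputable def coev : R →ₗ[R] M ⊗[R] Module.Dual R M :=
  LinearMap.toSpanSingleton R _ (∑ i, e i ⊗ₜ[R] φ i)

variable {e φ}

lemma zigzag (h : ∀ x, ∑ i, φ i x • e i = x) :
    (contractLeft R M).lTensor _ ∘ₗ
        (TensorProduct.assoc R _ _ _).toLinearMap ∘ₗ (coev e φ).rTensor M =
      (TensorProduct.rid R _).symm.toLinearMap ∘ₗ (TensorProduct.lid R _).toLinearMap := by
  refine TensorProduct.ext' fun r x => ?_
  simp only [LinearMap.coe_comp, Function.comp_apply, LinearEquiv.coe_toLinearMap,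
    LinearMap.rTensor_tmul, lid_tmul, rid_symm_apply, coev, LinearMap.toSpanSingleton_apply,
    Finset.smul_sum, TensorProduct.sum_tmul, map_sum]
  conv_rhs => rw [← h (r • x), TensorProduct.sum_tmul]
  refine Finset.sum_congr rfl fun i _ => ?_
  rw [TensorProduct.smul_tmul', assoc_tmul, LinearMap.lTensor_tmul, contractLeft_apply, map_smul,
    smul_eq_mul, TensorProduct.smul_tmul, mul_comm r, TensorProduct.smul_tmul (φ i x * r)]
  simp [mul_comm]

lemma zigzag' (h : ∀ x, ∑ i, φ i x • e i = x) :
    (contractLeft R M).rTensor _ ∘ₗ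
        (TensorProduct.assoc R _ _ _).symm.toLinearMap ∘ₗ (coev e φ).lTensor (Module.Dual R M) =
      (TensorProduct.lid R _).symm.toLinearMap ∘ₗ (TensorProduct.rid R _).toLinearMap := by
  refine TensorProduct.ext' fun ψ r => ?_
  simp only [LinearMap.coe_comp, Function.comp_apply, LinearEquiv.coe_toLinearMap,
    LinearMap.lTensor_tmul, rid_tmul, lid_symm_apply, coev, LinearMap.toSpanSingleton_apply,
    Finset.smul_sum, TensorProduct.tmul_sum, map_sum]
  have h' : r • ψ = ∑ i, (r * ψ (e i)) • φ i := by
    ext x
    simp only [LinearMap.smul_apply, LinearMap.sum_apply, smul_eq_mul]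
    conv_lhs => rw [← h x, map_sum, Finset.mul_sum]
    refine Finset.sum_congr rfl fun i _ => ?_
    rw [map_smul, smul_eq_mul]
    ring
  conv_rhs => rw [h', TensorProduct.tmul_sum]
  refine Finset.sum_congr rfl fun i _ => ?_
  rw [TensorProduct.smul_tmul', assoc_symm_tmul, LinearMap.rTensor_tmul, contractLeft_apply, map_smul,
    smul_eq_mul, ← TensorProduct.smul_tmul, smul_eq_mul, mul_one]

/-- The pairing of a module with a dual basis. -/
@[instance_reducible]
noncomputable def exactPairing (N : ModuleCat.{u} R) {n : ℕ} {e : Fin n → N}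
    {φ : Fin n → Module.Dual R N} (h : ∀ x, ∑ i, φ i x • e i = x) :
    ExactPairing N (ModuleCat.of R (Module.Dual R N)) where
  coevaluation' := ModuleCat.ofHom (coev e φ)
  evaluation' := ModuleCat.ofHom (contractLeft R N)
  coevaluation_evaluation' := by
    ext : 1
    exact zigzag' h
  evaluation_coevaluation' := by
    ext : 1
    exact zigzag h

theorem nonempty_hasRightDual (N : ModuleCat.{u} R) [Module.Finite R N] [Module.Projective R N] :
    Nonempty (HasRightDual N) := by
  obtain ⟨n, e, φ, h⟩ := exists_dualBasis R N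
  letI := exactPairing N h
  exact ⟨⟨ModuleCat.of R (Module.Dual R N)⟩⟩

end Groth.Agent.H78.ModDual
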