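import Groth.Prelude.Def_W4c5algebraiztannakaNis
import Groth.Agent.Lib.Spectral.Constructible
import Mathlib.AlgebraicGeometry.PullbackCarrier
import Mathlib.AlgebraicGeometry.Morphisms.FinitePresentation
import Mathlib.AlgebraicGeometry.IdealSheaf.Subscheme
import Mathlib.AlgebraicGeometry.Morphisms.ClosedImmersion

/-!
# Nisnevich covers of bounded length
-/

set_option linter.style.haveILetI false

universe u

open CategoryTheory Limits AlgebraicGeometry Topology TopologicalSpace
open W4c5algebraiztannaka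

namespace Groth.Agent.H78.Nis

variable {U Y Y' : Scheme.{u}}

lemma hasSectOver_baseChange {f : U ⟶ Y} {W : Set Y} (h : HasSectOver f W) (g : Y' ⟶ Y) :
    HasSectOver (pullback.snd f g) (g ⁻¹' W) := by
  obtain ⟨T, i, s, hi, hr, hs⟩ := h
  refine ⟨pullback i g, pullback.snd i g,
    pullback.lift (pullback.fst i g ≫ s) (pullback.snd i g)
      (by rw [Category.assoc, hs, pullback.condition]), inferInstance, ?_, pullback.lift_snd _ _ _⟩
  rw [← hr]
  exact Scheme.Pullback.range_snd i g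

theorem isNisCoverLen_baseChange {f : U ⟶ Y} {m : ℕ} (hf : IsNisCoverLen f m) (g : Y' ⟶ Y) :
    IsNisCoverLen (pullback.snd f g) m := by
  obtain ⟨he, Z, h0, h1, hmono, hcl, hsec⟩ := hf
  haveI := he
  refine ⟨inferInstance, fun k => g ⁻¹' Z k, by simp [h0], by simp [h1],
    fun a b h => Set.preimage_mono (hmono h), fun k => ⟨(hcl k).1.preimage g.continuous,
      g.isConstructible_preimage (hcl k).2⟩, fun k => ?_⟩
  rw [← Set.preimage_sdiff]
  exact hasSectOver_baseChange (hsec k) g

/-- The image of a constructible subset of an immersed scheme with constructible range. -/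
lemma isConstructible_image {T : Scheme.{u}} (i : T ⟶ Y) [IsImmersion i]
    (hr : IsConstructible (Set.range i)) {s : Set T} (hs : IsConstructible s) :
    IsConstructible (i '' s) := by
  let e : T ≃ₜ Set.range i := i.isEmbedding.toHomeomorph
  have h1 : IsConstructible (e.symm ⁻¹' s) :=
    hs.preimage_of_isOpenEmbedding e.symm.isOpenEmbedding
  have h2 := Lib.Spectral.Constructible.image_val hr h1
  have h3 : (Subtype.val : Set.range i → Y) '' (e.symm ⁻¹' s) = i '' s := by
    ext y
    constructor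
    · rintro ⟨z, hz, rfl⟩
      exact ⟨e.symm z, hz, congrArg Subtype.val (e.apply_symm_apply z)⟩
    · rintro ⟨t, ht, rfl⟩
      exact ⟨e t, by simpa using ht, rfl⟩
  rwa [h3] at h2

/-- The image of a closed subset, enlarged by a closed set containing the boundary, is closed. -/
lemma isClosed_union_image {T : Scheme.{u}} (i : T ⟶ Y) [IsImmersion i] {A B : Set Y}
    (hA : IsClosed A) (hB : IsClosed B) (hBA : B ⊆ A) (hr : Set.range i = A \ B) {s : Set T}
    (hs : IsClosed s) : IsClosed (B ∪ i '' s) := by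
  obtain ⟨C, hC, hCs⟩ := i.isEmbedding.isInducing.isClosed_iff.mp hs
  have : B ∪ i '' s = B ∪ A ∩ C := by
    rw [← hCs, Set.image_preimage_eq_range_inter, hr]
    ext y
    simp only [Set.mem_union, Set.mem_inter_iff, Set.mem_sdiff]
    tauto
  rw [this]
  exact hB.union (hA.inter hC)

theorem isNisCoverLen_comp {Y₁ Y₂ Y₃ : Scheme.{u}} (g₁ : Y₁ ⟶ Y₂) (g₂ : Y₂ ⟶ Y₃) {m₁ m₂ : ℕ}
    (h₁ : IsNisCoverLen g₁ m₁) (h₂ : IsNisCoverLen g₂ m₂) :
    IsNisCoverLen (g₁ ≫ g₂) (m₁ * m₂) := by
  obtain ⟨he₁, Z, hZ0, hZ1, hZm, hZc, hZs⟩ := h₁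
  obtain ⟨he₂, W, hW0, hW1, hWm, hWc, hWs⟩ := h₂
  haveI := he₁
  haveI := he₂
  refine ⟨inferInstance, ?_⟩
  rcases Nat.eq_zero_or_pos m₁ with hm₁ | hm₁
  · subst hm₁
    have hY₂ : IsEmpty Y₂ := ⟨fun y => by
      have : y ∈ Z 0 := by rw [show (0 : Fin (0 + 1)) = Fin.last 0 from rfl, hZ1]; trivial
      rw [hZ0] at this
      exact this⟩
    have hW : ∀ k : Fin (m₂ + 1), W k = ∅ := by
      intro k
      induction k using Fin.induction with
      | zero => exact hW0
      | succ k ih =>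
        obtain ⟨T, i, s, -, hr, -⟩ := hWs k
        rw [ih, Set.sdiff_empty] at hr
        rw [← hr, Set.range_eq_empty_iff]
        exact ⟨fun t => hY₂.elim (s t)⟩
    refine ⟨fun _ => ∅, rfl, ?_, monotone_const, fun _ => ⟨isClosed_empty, .empty⟩, fun k => ?_⟩
    · rw [← hW1, hW]
    · exact absurd k.2 (by simp)
  choose T i s hi hr hs using hWs
  let C : ℕ → Set Y₃ := fun n =>
    if h : n / m₁ < m₂ then
      W (⟨n / m₁, h⟩ : Fin m₂).castSucc ∪
        i ⟨n / m₁, h⟩ '' (s ⟨n / m₁, h⟩ ⁻¹' Z ⟨n % m₁, (Nat.mod_lt n hm₁).trans (Nat.lt_succ_self _)⟩)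
    else Set.univ
  have C_eq : ∀ (n : ℕ) (k : Fin m₂) (l : Fin (m₁ + 1)), n / m₁ = k → n % m₁ = l →
      C n = W k.castSucc ∪ i k '' (s k ⁻¹' Z l) := by
    rintro n ⟨k, hk⟩ ⟨l, hl⟩ (rfl : n / m₁ = k) (rfl : n % m₁ = l)
    exact dif_pos hk
  have hC : ∀ n, n < m₁ * m₂ → C n ⊆ C (n + 1) ∧ HasSectOver (g₁ ≫ g₂) (C (n + 1) \ C n) := by
    intro n hn
    have hk : n / m₁ < m₂ := Nat.div_lt_of_lt_mul hn
    set k : Fin m₂ := ⟨n / m₁, hk⟩
    haveI := hi k
    let l : Fin m₁ := ⟨n % m₁, Nat.mod_lt n hm₁⟩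
    have e0 : C n = W k.castSucc ∪ i k '' (s k ⁻¹' Z l.castSucc) := dif_pos hk
    have e1 : C (n + 1) = W k.castSucc ∪ i k '' (s k ⁻¹' Z l.succ) := by
      rcases Nat.lt_or_ge (n % m₁ + 1) m₁ with hlt | hge
      · have hd : (n + 1) / m₁ = n / m₁ := by
          rw [Nat.add_div hm₁, Nat.div_eq_of_lt (show 1 < m₁ by omega),
            if_neg (by rw [Nat.mod_eq_of_lt (show 1 < m₁ by omega)]; omega)]
          omega
        have hmod : (n + 1) % m₁ = n % m₁ + 1 := by
          rw [Nat.add_mod, Nat.mod_eq_of_lt (show 1 < m₁ by omega), Nat.mod_eq_of_lt hlt]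
        exact C_eq (n + 1) k l.succ hd hmod
      · have hd : (n + 1) / m₁ = n / m₁ + 1 := by
          rw [Nat.div_eq_of_lt_le] <;> rw [show n + 1 = m₁ * (n / m₁ + 1) by
            rw [Nat.mul_succ]
            have h1 := Nat.div_add_mod n m₁
            have h2 := Nat.mod_lt n hm₁
            omega]
          · rw [mul_comm]
          · rw [Nat.succ_mul, mul_comm m₁]; omega
        have hl : l.succ = Fin.last m₁ := Fin.ext (by
          have := Nat.mod_lt n hm₁
          change n % m₁ + 1 = m₁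
          omega)
        rw [hl, hZ1, Set.preimage_univ, Set.image_univ, hr, Set.union_sdiff_self,
          Set.union_eq_right.mpr (hWm (Fin.castSucc_le_succ k))]
        simp only [C]
        by_cases hlast : n / m₁ + 1 < m₂
        · rw [dif_pos (hd ▸ hlast)]
          have hmod : (n + 1) % m₁ = 0 := by
            have h1 := Nat.div_add_mod n m₁
            have h2 := Nat.mod_lt n hm₁
            rw [show n + 1 = m₁ * (n / m₁ + 1) by rw [Nat.mul_succ]; omega, Nat.mul_mod_right]
          rw [show (⟨(n + 1) % m₁, (Nat.mod_lt _ hm₁).trans (Nat.lt_succ_self _)⟩ : Fin (m₁ + 1)) = 0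
            from Fin.ext hmod, hZ0, Set.preimage_empty, Set.image_empty, Set.union_empty]
          exact congrArg W (Fin.ext hd)
        · rw [dif_neg (hd ▸ hlast), ← hW1]
          exact congrArg W (Fin.ext (by change m₂ = n / m₁ + 1; omega))
    have hsub : s k ⁻¹' Z l.castSucc ⊆ s k ⁻¹' Z l.succ :=
      Set.preimage_mono (hZm (Fin.castSucc_le_succ l))
    refine ⟨?_, ?_⟩
    · rw [e0, e1]
      exact Set.union_subset_union_right _ (Set.image_mono hsub)
    · obtain ⟨T', i', s', hi', hr', hs'⟩ := hZs l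
      haveI := hi'
      refine ⟨pullback (s k) i', pullback.fst (s k) i' ≫ i k, pullback.snd (s k) i' ≫ s',
        inferInstance, ?_, ?_⟩
      · have himg : C (n + 1) \ C n = i k '' (s k ⁻¹' (Z l.succ \ Z l.castSucc)) := by
          rw [e0, e1, Set.preimage_sdiff, Set.image_sdiff (i k).isEmbedding.injective]
          have hdis : ∀ y ∈ i k '' (s k ⁻¹' Z l.succ), y ∉ W k.castSucc := fun y ⟨t, _, ht⟩ => by
            have : y ∈ W k.succ \ W k.castSucc := hr k ▸ ⟨t, ht⟩
            exact this.2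
          ext y
          simp only [Set.mem_sdiff, Set.mem_union]
          constructor
          · rintro ⟨h1 | h1, h2⟩
            · exact absurd (Or.inl h1) h2
            · exact ⟨h1, fun h => h2 (Or.inr h)⟩
          · rintro ⟨h1, h2⟩
            exact ⟨Or.inr h1, fun h => h.elim (hdis y h1) h2⟩
        rw [himg, ← hr', ← Scheme.Pullback.range_fst, ← Set.range_comp]
        rfl
      · rw [Category.assoc, ← Category.assoc s', hs', ← Category.assoc, ← pullback.condition,
          Category.assoc, hs]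
  have hmono : ∀ a b, a ≤ b → b ≤ m₁ * m₂ → C a ⊆ C b := by
    intro a b hab
    induction hab with
    | refl => exact fun _ => subset_rfl
    | @step b hab ih => exact fun hb => (ih (by omega)).trans (hC b (by omega)).1
  refine ⟨fun n => C n, ?_, ?_, fun a b h => hmono a b h (by have := b.2; omega), fun n => ?_,
    fun n => (hC n n.2).2⟩
  · rcases Nat.eq_zero_or_pos m₂ with hm₂ | hm₂
    · subst hm₂
      change C 0 = ∅
      simp only [C]
      rw [dif_neg (by simp), ← hW1, show Fin.last 0 = (0 : Fin 1) from rfl, hW0]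
    · change C 0 = ∅
      simp only [C]
      rw [dif_pos (by simpa using hm₂)]
      have h0 : (⟨0 % m₁, (Nat.mod_lt _ hm₁).trans (Nat.lt_succ_self _)⟩ : Fin (m₁ + 1)) = 0 :=
        Fin.ext (Nat.zero_mod _)
      rw [h0, hZ0, Set.preimage_empty, Set.image_empty, Set.union_empty, ← hW0]
      exact congrArg W (Fin.ext (Nat.zero_div _))
  · change C (m₁ * m₂) = Set.univ
    simp only [C]
    rw [dif_neg (by rw [Nat.mul_div_cancel_left _ hm₁]; omega)]
  · change IsClosed (C n) ∧ IsConstructible (C n)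
    simp only [C]
    split_ifs with h
    · set k : Fin m₂ := ⟨(n : ℕ) / m₁, h⟩
      haveI := hi k
      refine ⟨isClosed_union_image (i k) (hWc k.succ).1 (hWc k.castSucc).1
        (hWm (Fin.castSucc_le_succ k)) (hr k) ((hZc _).1.preimage (s k).continuous),
        (hWc k.castSucc).2.union (isConstructible_image (i k) ?_ ((s k).isConstructible_preimage (hZc _).2))⟩
      rw [hr k]
      exact (hWc k.succ).2.sdiff (hWc k.castSucc).2
    · exact ⟨isClosed_univ, .univ⟩

theorem isNisCoverLen_sigma {U : Scheme.{u}} [CompactSpace U] [QuasiSeparatedSpace U]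
    (k : ℕ) (V : Fin k → U.Opens) (hV : ∀ i, IsCompact (V i : Set U)) (hcov : ⨆ i, V i = ⊤) :
    IsNisCoverLen
      (Sigma.desc (fun i => (V i).ι) : (∐ fun i => ((V i : U.Opens) : Scheme.{u})) ⟶ U) k := by
  haveI : IsZariskiLocalAtSource @Etale := HasRingHomProperty.instIsZariskiLocalAtSource
  refine ⟨IsZariskiLocalAtSource.sigmaDesc fun i => inferInstance, ?_⟩
  let R : Fin (k + 1) → Set U := fun j => ⋃ i : {i : Fin k // (j : ℕ) ≤ (i : ℕ)}, (V i.1 : Set U)
  have hRo : ∀ j, IsOpen (R j) := fun j => isOpen_iUnion fun i => (V i.1).2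
  have hRc : ∀ j, IsConstructible (R j) := fun j =>
    IsConstructible.iUnion fun i => (hV i.1).isConstructible (V i.1).2
  refine ⟨fun j => (R j)ᶜ, ?_, ?_, ?_, fun j => ⟨(hRo j).isClosed_compl, (hRc j).compl⟩,
    fun j => ?_⟩
  · rw [Set.compl_empty_iff]
    refine Set.eq_univ_of_forall fun x => ?_
    obtain ⟨i, hi⟩ := Opens.mem_iSup.mp (hcov.ge (Set.mem_univ x : x ∈ (⊤ : U.Opens)))
    exact Set.mem_iUnion.mpr ⟨⟨i, Nat.zero_le _⟩, hi⟩
  · rw [Set.compl_univ_iff]
    refine Set.eq_empty_of_forall_notMem fun x hx => ?_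
    obtain ⟨i, -⟩ := Set.mem_iUnion.mp hx
    have := i.1.2
    have := i.2
    simp at this
    omega
  · intro a b hab
    refine Set.compl_subset_compl.mpr fun x hx => ?_
    obtain ⟨i, hi⟩ := Set.mem_iUnion.mp hx
    exact Set.mem_iUnion.mpr ⟨⟨i.1, le_trans (show (a : ℕ) ≤ b from hab) i.2⟩, hi⟩
  · let A : Closeds U := ⟨(R j.succ)ᶜ, (hRo j.succ).isClosed_compl⟩
    let ι := (Scheme.IdealSheafData.vanishingIdeal A).subschemeι
    refine ⟨pullback ι (V j).ι, pullback.fst ι (V j).ι ≫ ι,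
      pullback.snd ι (V j).ι ≫ Sigma.ι (fun i => ((V i : U.Opens) : Scheme.{u})) j,
      inferInstance, ?_, ?_⟩
    · have h1 : Set.range (pullback.fst ι (V j).ι ≫ ι) =
          Set.range ι ∩ Set.range (V j).ι := Scheme.Pullback.range_fst_comp ι (V j).ι
      refine h1.trans ?_
      rw [Scheme.IdealSheafData.range_subschemeι, Scheme.IdealSheafData.coe_support_vanishingIdeal,
        Scheme.Opens.range_ι]
      change (R j.succ)ᶜ ∩ (V j : Set U) = (R j.succ)ᶜ \ (R j.castSucc)ᶜ
      rw [Set.sdiff_compl]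
      ext x
      simp only [Set.mem_inter_iff, Set.mem_compl_iff]
      constructor
      · rintro ⟨h, hx⟩
        exact ⟨h, Set.mem_iUnion.mpr ⟨⟨j, le_refl _⟩, hx⟩⟩
      · rintro ⟨h, hx⟩
        refine ⟨h, ?_⟩
        obtain ⟨i, hi⟩ := Set.mem_iUnion.mp hx
        rcases eq_or_lt_of_le (show (j : ℕ) ≤ i.1 from i.2) with e | e
        · rwa [show j = i.1 from Fin.ext e]
        · exact absurd (Set.mem_iUnion.mpr ⟨⟨i.1, (show (j : ℕ) + 1 ≤ i.1 from e)⟩, hi⟩) h
    · rw [Category.assoc, Sigma.ι_desc, ← pullback.condition]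

end Groth.Agent.H78.Nis
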