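import Groth.Prelude.Def_Formal2
import Mathlib.CategoryTheory.CofilteredSystem
import Mathlib.Algebra.Category.Grp.Basic

/-!
# `lim¹` of towers of abelian groups
-/

universe u

open CategoryTheory Opposite

namespace Groth.Agent.H78.Tower

variable (G : ℕ → Type u) [∀ n, AddCommGroup (G n)] (t : ∀ n, G (n + 1) →+ G n)

/-- The elements which come from `k` steps higher. -/
def Img (n k : ℕ) : AddSubgroup (G n) where
  carrier := {y | ∃ x : ∀ m, G m, (∀ m, n ≤ m → m < n + k → x m = t m (x (m + 1))) ∧ x n = y}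
  zero_mem' := ⟨0, fun m _ _ => (map_zero _).symm, rfl⟩
  add_mem' := by
    rintro _ _ ⟨x, hx, rfl⟩ ⟨y, hy, rfl⟩
    exact ⟨x + y, fun m h h' => by rw [Pi.add_apply, Pi.add_apply, map_add, hx m h h', hy m h h'], rfl⟩
  neg_mem' := by
    rintro _ ⟨x, hx, rfl⟩
    exact ⟨-x, fun m h h' => by rw [Pi.neg_apply, Pi.neg_apply, map_neg, hx m h h'], rfl⟩

variable {G t}

/-- `w n + t (w (n+1)) + … ` up to `k` terms. -/
def P (t : ∀ n, G (n + 1) →+ G n) (w : ∀ n, G n) : ℕ → ∀ n, G n
  | 0, _ => 0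
  | k + 1, n => w n + t n (P t w k (n + 1))

/-- The iterated image of `w (n + k)`. -/
def D (t : ∀ n, G (n + 1) →+ G n) (w : ∀ n, G n) : ℕ → ∀ n, G n
  | 0, n => w n
  | k + 1, n => t n (D t w k (n + 1))

lemma P_succ (w : ∀ n, G n) : ∀ (k n : ℕ), P t w (k + 1) n = P t w k n + D t w k n
  | 0, n => by simp [P, D]
  | k + 1, n => by
    change w n + t n (P t w (k + 1) (n + 1)) = _
    rw [P_succ w k (n + 1), map_add, ← add_assoc]
    rfl

lemma D_mem_img (w : ∀ n, G n) (n k : ℕ) : D t w k n ∈ Img G t n k := by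
  refine ⟨fun m => D t w (n + k - m) m, fun m hm hm' => ?_, ?_⟩
  · change D t w (n + k - m) m = t m (D t w (n + k - (m + 1)) (m + 1))
    rw [show n + k - m = (n + k - (m + 1)) + 1 by omega]
    rfl
  · change D t w (n + k - n) n = _
    rw [show n + k - n = k by omega]

lemma img_anti {n k k' : ℕ} (h : k ≤ k') : Img G t n k' ≤ Img G t n k := by
  rintro _ ⟨x, hx, rfl⟩
  exact ⟨x, fun m h1 h2 => hx m h1 (by omega), rfl⟩

lemma t_mem_img {n k : ℕ} {y : G (n + 1)} (hy : y ∈ Img G t (n + 1) k) :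
    t n y ∈ Img G t n (k + 1) := by
  obtain ⟨x, hx, rfl⟩ := hy
  refine ⟨fun m => if h : m = n then h ▸ t n (x (n + 1)) else x m, fun m h1 h2 => ?_, ?_⟩
  · by_cases h : m = n
    · subst h
      simp
    · simp only [dif_neg h, dif_neg (show m + 1 ≠ n by omega)]
      exact hx m (by omega) (by omega)
  · simp

/-- Mittag-Leffler towers have vanishing `lim¹`. -/
theorem surjective_towerDiff (hML : ∀ n, ∃ K, ∀ k, Img G t n K ≤ Img G t n k) :
    Function.Surjective (Formal2.towerDiff G t) := by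
  intro w
  choose K hK using hML
  let E : ∀ n, AddSubgroup (G n) := fun n => Img G t n (K n)
  have hE : ∀ n k, E n ≤ Img G t n k := fun n k => hK n k
  have hsum : ∀ n k, K n ≤ k → P t w k n - P t w (K n) n ∈ E n := by
    intro n k hk
    induction k, hk using Nat.le_induction with
    | base => rw [sub_self]; exact zero_mem _
    | succ k hk ih =>
      rw [P_succ, add_sub_right_comm]
      exact add_mem ih (img_anti hk (D_mem_img w n k))
  have hr : ∀ n, w n - (P t w (K n) n - t n (P t w (K (n + 1)) (n + 1))) ∈ E n := by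
    intro n
    set k := max (K n) (K (n + 1))
    have h1 := hsum n (k + 1) (le_trans (le_max_left _ _) (Nat.le_succ _))
    have h2 : t n (P t w k (n + 1) - P t w (K (n + 1)) (n + 1)) ∈ E n :=
      img_anti (Nat.le_succ _) (t_mem_img (hE (n + 1) (K n) (hsum (n + 1) k (le_max_right _ _))))
    have e : w n - (P t w (K n) n - t n (P t w (K (n + 1)) (n + 1))) =
        (P t w (k + 1) n - P t w (K n) n) - t n (P t w k (n + 1) - P t w (K (n + 1)) (n + 1)) := by
      change _ = (w n + t n (P t w k (n + 1)) - _) - _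
      rw [map_sub]
      abel
    rw [e]
    exact sub_mem h1 h2
  have hlift : ∀ n (y : E n), ∃ z : E (n + 1), t n (z : G (n + 1)) = y := by
    intro n y
    obtain ⟨x, hx, e⟩ := hE n (1 + K (n + 1)) y.2
    refine ⟨⟨x (n + 1), x, fun m h1 h2 => hx m (by omega) (by omega), rfl⟩, ?_⟩
    rw [← e]
    exact (hx n le_rfl (by omega)).symm
  choose g hg using hlift
  obtain ⟨z, hz⟩ : ∃ z : ∀ n, G n, ∀ n,
      t n (z (n + 1)) = z n - (w n - (P t w (K n) n - t n (P t w (K (n + 1)) (n + 1)))) := by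
    let z' : ∀ n, E n := fun n => Nat.rec (motive := fun n => ↥(E n)) 0
      (fun n y => g n (y - ⟨_, hr n⟩)) n
    exact ⟨fun n => Subtype.val (z' n), fun n => hg n (z' n - ⟨_, hr n⟩)⟩
  refine ⟨fun n => P t w (K n) n + z n, funext fun n => ?_⟩
  change P t w (K n) n + z n - t n (P t w (K (n + 1)) (n + 1) + z (n + 1)) = w n
  rw [map_add, hz]
  abel

lemma map_eq_of_compat (x : ∀ m, G m) (i : ℕ) {m : ℕ} (h : i ≤ m)
    (hx : ∀ l, i ≤ l → l < m → x l = t l (x (l + 1))) :
    (Functor.ofOpSequence (X := fun n => AddCommGrpCat.of (G n))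
      (fun n => AddCommGrpCat.ofHom (t n))).map (homOfLE h).op (x m) = x i := by
  induction h with
  | refl =>
    rw [show (homOfLE (le_refl i)).op = 𝟙 (op i) from rfl, CategoryTheory.Functor.map_id]
    rfl
  | @step m h ih =>
    rw [show (homOfLE (Nat.le.step h : i ≤ m + 1)).op =
      (homOfLE (Nat.le_succ m)).op ≫ (homOfLE h).op from rfl, Functor.map_comp,
      Functor.ofOpSequence_map_homOfLE_succ]
    change (Functor.ofOpSequence (X := fun n => AddCommGrpCat.of (G n))
      (fun n => AddCommGrpCat.ofHom (t n))).map (homOfLE h).op (t m (x (m + 1))) = x i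
    rw [← hx m h (Nat.lt_succ_self m)]
    exact ih fun l h1 h2 => hx l h1 (h2.trans (Nat.lt_succ_self m))

lemma map_step {l m : ℕ} (h : l + 1 ≤ m) (y : G m) :
    (Functor.ofOpSequence (X := fun n => AddCommGrpCat.of (G n))
      (fun n => AddCommGrpCat.ofHom (t n))).map (homOfLE (Nat.le_of_succ_le h)).op y =
    t l ((Functor.ofOpSequence (X := fun n => AddCommGrpCat.of (G n))
      (fun n => AddCommGrpCat.ofHom (t n))).map (homOfLE h).op y) := by
  rw [show (homOfLE (Nat.le_of_succ_le h)).op = (homOfLE h).op ≫ (homOfLE (Nat.le_succ l)).op from rfl,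
    Functor.map_comp, Functor.ofOpSequence_map_homOfLE_succ]
  rfl

/-- The transition map, with values in `G`. -/
noncomputable def mp (t : ∀ n, G (n + 1) →+ G n) {l m : ℕ} (h : l ≤ m) (y : G m) : G l :=
  (Functor.ofOpSequence (X := fun n => AddCommGrpCat.of (G n))
    (fun n => AddCommGrpCat.ofHom (t n))).map (homOfLE h).op y

lemma mem_img_map {i m : ℕ} (h : i ≤ m) (y : G m) : mp t h y ∈ Img G t i (m - i) := by
  refine ⟨fun l => if hl : l ≤ m then mp t hl y else 0, fun l h1 h2 => ?_, dif_pos h⟩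
  simp only [dif_pos (show l ≤ m by omega), dif_pos (show l + 1 ≤ m by omega)]
  exact map_step (show l + 1 ≤ m by omega) y

/-- The Mittag-Leffler condition in terms of `Img`. -/
lemma ml_of_isMittagLeffler (h : (Functor.ofOpSequence (X := fun n => AddCommGrpCat.of (G n))
      (fun n => AddCommGrpCat.ofHom (t n)) ⋙ forget AddCommGrpCat).IsMittagLeffler) :
    ∀ n, ∃ K, ∀ k, Img G t n K ≤ Img G t n k := by
  intro n
  obtain ⟨⟨j⟩, f, hf⟩ := h (op n)
  have hnj : n ≤ j := leOfHom f.unop
  refine ⟨j - n, fun k y hy => ?_⟩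
  obtain ⟨x, hx, rfl⟩ := hy
  have hle : n ≤ n + k := Nat.le_add_right n k
  obtain ⟨y, hy⟩ := hf (homOfLE hle).op ⟨x j, rfl⟩
  have e1 := map_eq_of_compat (t := t) x n hnj fun l h1 h2 => hx l h1 (by omega)
  have e2 := mem_img_map (t := t) hle y
  rw [Nat.add_sub_cancel_left] at e2
  rw [← e1]
  rw [show (homOfLE hnj).op = f from Subsingleton.elim _ _]
  exact hy ▸ e2

end Groth.Agent.H78.Tower
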