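import Groth.Prelude
import Groth.Agent.Lib.ProjMor.Poly
import Groth.Agent.Lib.ZeroCyc99.Twist
import Groth.Agent.Lib.GrSheafReg.Global
import Groth.Agent.Lib.ProjTilde.Invertible
import Mathlib.AlgebraicGeometry.Artinian
import Mathlib.RingTheory.TensorProduct.Basic

/-!
# Restriction of quadrics to a finite subscheme which lies on few hyperplanes
-/

set_option autoImplicit false

noncomputable section

universe u

open CategoryTheory AlgebraicGeometry TopologicalSpace Opposite HomogeneousLocalization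

open scoped TensorProduct

namespace Groth.Agent.H78.TwistTwo

open Groth.Agent.Lib TensorMod TensorMod.Basic TensorMod.Free TensorMod.Dual TensorMod.Gen TensorMod.HomGlue
  TensorMod.Pullback Ample.GenLocus ProjMor.Sec Chow.PointMap

/-- If a subspace `V` of codimension at most one generates the unit ideal and its products do not span,
then modulo some ideal `V` is a line spanned by a unit, which is more than the scalars. -/
theorem core {k R : Type u} [Field k] [CommRing R] [Algebra k R] (V : Submodule k R) (v : R)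
    (hv : ∀ r, ∃ x ∈ V, ∃ c : k, r = x + c • v) (hunit : Ideal.span (V : Set R) = ⊤) (hV : V * V ≠ ⊤) :
    ∃ (K : Ideal R) (x : R), x ∈ V ∧ IsUnit (Ideal.Quotient.mk K x) ∧
      (∀ y ∈ V, ∃ μ : k, Ideal.Quotient.mk K y = algebraMap k (R ⧸ K) μ * Ideal.Quotient.mk K x) ∧
      ¬ ∀ q : R ⧸ K, ∃ μ : k, q = algebraMap k (R ⧸ K) μ := by
  obtain ⟨φ, hφ0, hφ⟩ := Submodule.exists_dual_map_eq_bot_of_lt_top (lt_top_iff_ne_top.2 hV) inferInstance
  have hφ' : ∀ x ∈ V, ∀ y ∈ V, φ (x * y) = 0 := fun x hx y hy => by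
    have := Submodule.mem_map_of_mem (f := φ) (Submodule.mul_mem_mul hx hy)
    rw [hφ] at this
    exact (Submodule.mem_bot k).1 this
  let K : Ideal R :=
    { carrier := {a | ∀ r, φ (a * r) = 0}
      add_mem' := fun {a b} ha hb r => by rw [add_mul, map_add, ha, hb, add_zero]
      zero_mem' := fun r => by rw [zero_mul, map_zero]
      smul_mem' := fun c a ha r => by rw [smul_eq_mul, mul_comm c a, mul_assoc]; exact ha _ }
  have h1K : (1 : R) ∉ K := fun h => hφ0 (LinearMap.ext fun r => by simpa using h r)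
  obtain ⟨x, hx, hxK⟩ : ∃ x ∈ V, x ∉ K := by
    by_contra h
    push Not at h
    exact h1K ((Ideal.span_le.2 h : Ideal.span (V : Set R) ≤ K) (hunit ▸ Submodule.mem_top))
  have hα : φ (x * v) ≠ 0 := fun h0 => hxK fun r => by
    obtain ⟨s, hs, c, rfl⟩ := hv r
    rw [mul_add, map_add, hφ' x hx s hs, mul_smul_comm, map_smul, h0, smul_zero, add_zero]
  have hprop : ∀ y ∈ V, ∃ μ : k, Ideal.Quotient.mk K y = algebraMap k (R ⧸ K) μ * Ideal.Quotient.mk K x :=
      fun y hy => by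
    refine ⟨φ (y * v) / φ (x * v), ?_⟩
    rw [← Ideal.Quotient.mk_algebraMap, ← map_mul, Ideal.Quotient.eq, ← Algebra.smul_def]
    intro r
    obtain ⟨s, hs, c, rfl⟩ := hv r
    rw [sub_mul, smul_mul_assoc, map_sub, map_smul, mul_add, mul_add, map_add, map_add, hφ' y hy s hs,
      hφ' x hx s hs, mul_smul_comm, mul_smul_comm, map_smul, map_smul, smul_eq_mul, smul_eq_mul, smul_eq_mul]
    field_simp
    ring
  refine ⟨K, x, hx, ?_, hprop, fun hk => ?_⟩
  · have hle : Ideal.span (V : Set R) ≤ (Ideal.span {Ideal.Quotient.mk K x}).comap (Ideal.Quotient.mk K) :=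
      Ideal.span_le.2 fun y hy => by
        obtain ⟨μ, hμ⟩ := hprop y hy
        refine Ideal.mem_comap.2 ?_
        rw [hμ]
        exact Ideal.mul_mem_left _ _ (Ideal.mem_span_singleton_self _)
    have h1 := hle (hunit ▸ Submodule.mem_top : (1 : R) ∈ Ideal.span (V : Set R))
    rw [Ideal.mem_comap, map_one] at h1
    exact isUnit_of_dvd_one (Ideal.mem_span_singleton.1 h1)
  · have hlin : ∀ (r : R) (μ : k), Ideal.Quotient.mk K r = algebraMap k (R ⧸ K) μ → φ r = μ * φ 1 :=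
        fun r μ h => by
      rw [← Ideal.Quotient.mk_algebraMap, Ideal.Quotient.eq] at h
      have := h 1
      rwa [mul_one, map_sub, sub_eq_zero, Algebra.algebraMap_eq_smul_one, map_smul, smul_eq_mul] at this
    obtain ⟨μ, hμ⟩ := hk (Ideal.Quotient.mk K x)
    have h2 := hlin (x * x) (μ * μ) (by rw [map_mul, map_mul, hμ])
    rw [hφ' x hx x hx] at h2
    have hμ0 : μ ≠ 0 := fun h => hxK (Ideal.Quotient.eq_zero_iff_mem.1 (by rw [hμ, h, map_zero]))
    have h3 : φ 1 = 0 := by simpa [hμ0] using h2.symm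
    refine hφ0 (LinearMap.ext fun r => ?_)
    obtain ⟨ν, hν⟩ := hk (Ideal.Quotient.mk K r)
    rw [hlin r ν hν, h3, mul_zero, LinearMap.zero_apply]

/-- An algebra whose elements agree on both sides of `⊗` consists of scalars. -/
theorem scalars_of_tmul {k S : Type u} [Field k] [CommRing S] [Algebra k S] [Nontrivial S]
    (h : ∀ q : S, q ⊗ₜ[k] (1 : S) = 1 ⊗ₜ q) (q : S) : ∃ μ : k, q = algebraMap k S μ := by
  obtain ⟨f, hf⟩ := (Algebra.linearMap k S).exists_leftInverse_of_injective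
    (LinearMap.ker_eq_bot.2 (FaithfulSMul.algebraMap_injective k S))
  have hf1 : f 1 = 1 := by simpa using LinearMap.congr_fun hf 1
  refine ⟨f q, ?_⟩
  have := congrArg ((TensorProduct.lid k S).toLinearMap ∘ₗ TensorProduct.map f LinearMap.id) (h q)
  simpa [hf1, Algebra.algebraMap_eq_smul_one] using this.symm

/-- Sections on a cover by disjoint opens glue. -/
theorem exists_glue {X : Scheme.{u}} {M : X.Modules} {ι : Type u} (U : ι → X.Opens) (hcov : iSup U = ⊤)
    (hd : ∀ i j, i ≠ j → U i ⊓ U j = ⊥) (s : ∀ i, Γ(M, U i)) (hs : ∀ i, IsGen M (U i) (s i)) :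
    ∃ e : Γ(M, ⊤), (∀ i, gl e (U i) = s i) ∧ IsGen M ⊤ e := by
  obtain ⟨e, he, -⟩ := TopCat.Sheaf.existsUnique_gluing'
    (⟨M.presheaf, M.isSheaf⟩ : TopCat.Sheaf Ab.{u} X) U ⊤ (fun i => homOfLE le_top) hcov.ge s fun i j => by
      rcases eq_or_ne i j with rfl | hij
      · rfl
      · exact sections_ext_cover (fun e : PEmpty.{1} => e.elim) M (V := U i ⊓ U j)
          (by rw [hd i j hij]; exact bot_le) fun e => e.elim
  have he' : ∀ i, gl e (U i) = s i := he
  refine ⟨e, he', ?_⟩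
  have h1 : ⊤ ≤ locus e := hcov ▸ iSup_le fun i => le_locus ((he' i).symm ▸ hs i)
  have h2 := (isGen_locus e).res h1
  simpa only [rs_gl, rs_self] using h2

variable {k : Type u} [Field k] {N : ℕ}

local notation "P" => Proj (CohB1.polyGrading N k)
local notation "O(" d ")" => Twist.twist (CohB1.polyGrading N k) d

set_option maxHeartbeats 1000000 in
/-- Global sections of `O(m)` on projective space are forms. -/
theorem form_of_section {m : ℕ} (σ : Γ(O((m : ℤ)), ⊤)) :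
    ∃ F : CohB1.polyGrading N k m, Twist.globalOf (CohB1.polyGrading N k) F = σ := by
  let σ' : Twist.sectN (𝒜 := CohB1.polyGrading N k) (m : ℤ) (op ⊤) := σ
  let τ : GrTilde.sect (CohB1.polyGrading N k) (CohB1.polyGrading N k) (m : ℤ)
      (op (⊤ : Opens (ProjectiveSpectrum.top (CohB1.polyGrading N k)))) := ProjTilde.Basic.twistToTilde σ'
  obtain ⟨F, hF, h⟩ := GrSheafReg.Global.exists_val_eq (r := N) (k := k) (a := m) τ
  refine ⟨⟨F, hF⟩, ProjMor.Frame.sec_ext fun x => ?_⟩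
  exact ((ProjTilde.Basic.val_twistToTilde σ' x).symm.trans (h x)).symm

open ProjMor.Frame (g fr)
open ZeroCyc99.Twist (gs isGen_globalOf)

variable {R A : Type u} [CommRing R] [CommRing A] [Algebra R A] {𝒜 : ℕ → Submodule R A} [GradedAlgebra 𝒜]

/-- Products of two linear forms in the frame of a square. -/
theorem gs_mul_eq_fr_smul (a b c : 𝒜 1) :
    gl (gs (⟨b * c, SetLike.mul_mem_graded b.2 c.2⟩ : 𝒜 2)) (Proj.basicOpen 𝒜 (a : A)) =
      (fr 𝒜 a b * fr 𝒜 a c) •
        gl (gs (⟨a * a, SetLike.mul_mem_graded a.2 a.2⟩ : 𝒜 2)) (Proj.basicOpen 𝒜 (a : A)) := by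
  refine ProjMor.Frame.sec_ext fun x => Eq.symm ?_
  refine (ProjMor.Frame.value_smul _ _ x).trans ?_
  change (((show Twist.O (𝒜 := 𝒜) (op (Proj.basicOpen 𝒜 (a : A))) from fr 𝒜 a b).1 x) *
    ((show Twist.O (𝒜 := 𝒜) (op (Proj.basicOpen 𝒜 (a : A))) from fr 𝒜 a c).1 x)).val * _ = _
  rw [HomogeneousLocalization.val_mul, ProjMor.Frame.value_fr, ProjMor.Frame.value_fr,
    ZeroCyc99.Twist.value_globalOf, Localization.mk_mul, Localization.mk_mul]
  change _ = Localization.mk ((b : A) * c) 1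
  rw [Localization.mk_eq_mk_iff, Localization.r_iff_exists]
  exact ⟨1, by simp; ring⟩

variable {X : Scheme.{u}}

theorem gl_pullSec_gs_mul (r : X ⟶ Proj 𝒜) (a b c : 𝒜 1) {U : X.Opens}
    (h : U ≤ r ⁻¹ᵁ Proj.basicOpen 𝒜 (a : A)) :
    gl (ProjUP.pullSec r _ (gs (⟨b * c, SetLike.mul_mem_graded b.2 c.2⟩ : 𝒜 2))) U =
      (r.appLE _ U h (fr 𝒜 a b) * r.appLE _ U h (fr 𝒜 a c)) •
        gl (ProjUP.pullSec r _ (gs (⟨a * a, SetLike.mul_mem_graded a.2 a.2⟩ : 𝒜 2))) U := by
  have h1 := congrArg (unitSec r _) (gs_mul_eq_fr_smul a b c)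
  rw [unitSec_smul, ← gl_pullSec, ← gl_pullSec] at h1
  have h3 := congrArg (rs ((pb r).obj _) h) h1
  rw [rs_smul, rs_gl, rs_gl] at h3
  rw [← map_mul]
  exact h3

set_option maxHeartbeats 1600000 in
/-- The main statement for a morphism. -/
theorem surjective_two (i : X ⟶ P) [IsClosedImmersion i] [Finite X] [DiscreteTopology X]
    (v : Γ((pb i).obj O((1 : ℤ)), ⊤))
    (hv : ∀ t, ∃ (s : Γ(O((1 : ℤ)), ⊤)) (c : k), t = ProjUP.pullSec i _ s +
      ProjUP.toGlobal (i ≫ ProjMor.Char.str (CohB1.polyGrading N k)) c • v) :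
    ∀ t : Γ((pb i).obj O((2 : ℤ)), ⊤), ∃ s : Γ(O((2 : ℤ)), ⊤), ProjUP.pullSec i _ s = t := by
  classical
  let 𝒜' := CohB1.polyGrading N k
  let q := i ≫ ProjMor.Char.str (CohB1.polyGrading N k)
  let := (ProjUP.toGlobal q).toAlgebra
  have hcovA : ∀ x : ProjectiveSpectrum 𝒜', ∃ a : 𝒜' 1, (a : MvPolynomial (Fin (N + 1)) k) ∉ x.asHomogeneousIdeal :=
    ProjMor.Main.cover (ProjMor.Poly.lin_mem N k) (ProjMor.Poly.adjoin_lin N k)
  have hinv : PicF.IsInvertible O((1 : ℤ)) :=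
    ProjTilde.Invertible.twist_isInvertible_of_cover (fun x => by
      obtain ⟨c, hc⟩ := hcovA x
      exact ⟨c, c.2, hc⟩) 1
  choose a ha using fun z : X => hcovA (i z)
  let U : X → X.Opens := fun z => ⟨{z}, isOpen_discrete _⟩
  have hU : ∀ z, U z ≤ i ⁻¹ᵁ Proj.basicOpen 𝒜' (a z : MvPolynomial (Fin (N + 1)) k) := fun z y hy => by
    obtain rfl : y = z := hy
    exact ha y
  have hcov : iSup U = ⊤ := top_le_iff.1 fun z _ => Opens.mem_iSup.2 ⟨z, rfl⟩
  have hd : ∀ z w, z ≠ w → U z ⊓ U w = ⊥ := fun z w h => eq_bot_iff.2 fun y hy => (h (hy.1.symm.trans hy.2)).elim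
  let sq : X → 𝒜' 2 := fun z =>
    ⟨(a z : MvPolynomial (Fin (N + 1)) k) * a z, SetLike.mul_mem_graded (a z).2 (a z).2⟩
  obtain ⟨e, he, hgen⟩ := exists_glue U hcov hd (fun z => gl (ProjUP.pullSec i O((1 : ℤ)) (g 𝒜' (a z))) (U z))
    fun z => by
      have h := isGen_unitSec i (ProjMor.Frame.isGen_g (a z))
      rw [← gl_pullSec] at h
      simpa only [rs_gl] using h.res (hU z)
  obtain ⟨e2, he2, hgen2⟩ := exists_glue U hcov hd (fun z => gl (ProjUP.pullSec i O((2 : ℤ)) (gs (sq z))) (U z))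
    fun z => by
      have h0 := (isGen_globalOf (sq z)).res (V := Proj.basicOpen 𝒜' (a z : MvPolynomial (Fin (N + 1)) k)) (by
        change Proj.basicOpen 𝒜' (a z : MvPolynomial (Fin (N + 1)) k) ≤ Proj.basicOpen 𝒜' ((a z : MvPolynomial (Fin (N + 1)) k) * a z)
        rw [Proj.basicOpen_mul, inf_idem])
      rw [rs_gl] at h0
      have h := isGen_unitSec i h0
      rw [← gl_pullSec] at h
      have h' := h.res (hU z)
      rw [rs_gl] at h'
      exact h'
  choose c hc using fun b : 𝒜' 1 => exists_coord hgen (ProjUP.pullSec i O((1 : ℤ)) (g 𝒜' b))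
  have hinj : ∀ (W : X.Opens) (r r' : Γ(X, W)), r • gl e W = r' • gl e W → r = r' := fun W r r' h =>
    (hgen W le_top).1 h
  have hres : ∀ (W : X.Opens) (b : 𝒜' 1), gl (ProjUP.pullSec i O((1 : ℤ)) (g 𝒜' b)) W =
      X.presheaf.map (homOfLE (le_top : W ≤ ⊤)).op (c b) • gl e W := fun W b => by
    have h := congrArg (fun m => rs ((pb i).obj O((1 : ℤ))) (le_top : W ≤ ⊤) m) (hc b)
    exact h.trans (rs_smul _ le_top _ _)
  have hloc : ∀ z b, X.presheaf.map (homOfLE (le_top : U z ≤ ⊤)).op (c b) =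
      i.appLE _ (U z) (hU z) (fr 𝒜' (a z) b) := fun z b => by
    refine hinj (U z) _ _ ((hres (U z) b).symm.trans ?_)
    rw [he z]
    exact ProjMor.Uniq.gl_pullSec_g i (a z) b (hU z)
  have hmul : ∀ b b' : 𝒜' 1, ProjUP.pullSec i O((2 : ℤ))
      (gs (⟨b * b', SetLike.mul_mem_graded b.2 b'.2⟩ : 𝒜' 2)) = (c b * c b') • e2 := fun b b' => by
    refine sections_ext_cover U _ (V := ⊤) (by rw [hcov]) fun z => ?_
    have key : gl (ProjUP.pullSec i O((2 : ℤ))
        (gs (⟨b * b', SetLike.mul_mem_graded b.2 b'.2⟩ : 𝒜' 2))) (U z) = gl ((c b * c b') • e2) (U z) := by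
      rw [gl, gl, rs_smul]
      change _ = X.presheaf.map (homOfLE (le_top : U z ≤ ⊤)).op (c b * c b') • _
      rw [map_mul, hloc, hloc]
      change _ = _ • gl e2 (U z)
      rw [he2 z]
      exact gl_pullSec_gs_mul i (a z) b b' (hU z)
    have h2 := congrArg (rs ((pb i).obj O((2 : ℤ))) (inf_le_right : ⊤ ⊓ U z ≤ U z)) key
    rwa [rs_gl, rs_gl] at h2
  have happ : ∀ κ : k, i.app ⊤ (ProjUP.toGlobal (ProjMor.Char.str (CohB1.polyGrading N k)) κ) = ProjUP.toGlobal q κ :=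
    fun κ => rfl
  let S2 : Submodule k Γ(X, ⊤) :=
    { carrier := {r | ∃ s : Γ(O((2 : ℤ)), ⊤), ProjUP.pullSec i _ s = r • e2}
      add_mem' := by
        rintro r r' ⟨s, hs⟩ ⟨s', hs'⟩
        exact ⟨s + s', by rw [add_smul, ← hs, ← hs']; exact map_add _ s s'⟩
      zero_mem' := ⟨0, by rw [zero_smul]; exact map_zero _⟩
      smul_mem' := by
        rintro κ r ⟨s, hs⟩
        refine ⟨ProjUP.toGlobal (ProjMor.Char.str (CohB1.polyGrading N k)) κ • s, ?_⟩
        rw [Algebra.smul_def, mul_smul, ← hs]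
        exact (unitSec_smul i _ s).trans (congrArg (· • _) (happ κ)) }
  let V : Submodule k Γ(X, ⊤) := Submodule.span k (Set.range c)
  obtain ⟨rv, hrv⟩ := exists_coord hgen v
  have hVv : ∀ r, ∃ x ∈ V, ∃ κ : k, r = x + κ • rv := fun r => by
    obtain ⟨s, κ, hs⟩ := hv (r • e)
    obtain ⟨b, rfl⟩ := form_of_section (m := 1) s
    refine ⟨c b, Submodule.subset_span ⟨b, rfl⟩, κ, hinj ⊤ _ _ ?_⟩
    simp only [gl, rs_self]
    rw [hs, add_smul, Algebra.smul_def, mul_smul, ← hrv, ← hc]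
    rfl
  have hbasic : ∀ b : 𝒜' 1, X.basicOpen (c b) = i ⁻¹ᵁ Proj.basicOpen 𝒜' (b : MvPolynomial (Fin (N + 1)) k) := fun b => by
    have h := locus_inf_eq hgen (m := ProjUP.pullSec i O((1 : ℤ)) (g 𝒜' b)) (a := c b) (by
      rw [gl, rs_self]; exact hc b)
    rw [inf_top_eq, locus_pullback hinv, ProjMor.Frame.locus_g hcovA] at h
    exact h.symm
  have hunit : Ideal.span (V : Set Γ(X, ⊤)) = ⊤ := by
    refine top_le_iff.1 (le_trans ?_ (Ideal.span_mono (Submodule.subset_span : Set.range c ⊆ _)))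
    refine ((isAffineOpen_top X).iSup_basicOpen_eq_self_iff.1 ?_).ge
    refine top_le_iff.1 fun z _ => Opens.mem_iSup.2 ⟨⟨c (a z), a z, rfl⟩, ?_⟩
    change z ∈ X.basicOpen (c (a z))
    rw [hbasic]
    exact hU z rfl
  have hVV : V * V = ⊤ := by
    by_contra hne
    obtain ⟨K, x, hx, hxu, hprop, hnot⟩ := core V rv hVv hunit hne
    have hK : Nontrivial (Γ(X, ⊤) ⧸ K) := by
      by_contra h
      rw [not_nontrivial_iff_subsingleton] at h
      exact hnot fun w => ⟨0, Subsingleton.elim _ _⟩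
    let π := Ideal.Quotient.mk K
    choose μ hμ using fun b : 𝒜' 1 => hprop (c b) (Submodule.subset_span ⟨b, rfl⟩)
    obtain ⟨b₀, hb₀⟩ : ∃ b, μ b ≠ 0 := by
      by_contra h
      push Not at h
      have : ∀ y ∈ V, π y = 0 := fun y hy => by
        induction hy using Submodule.span_induction with
        | mem y hy => obtain ⟨b, rfl⟩ := hy; rw [hμ, h, map_zero, zero_mul]
        | zero => exact map_zero _
        | add y y' _ _ hy hy' => rw [map_add, hy, hy', add_zero]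
        | smul κ y _ hy => rw [Algebra.smul_def, map_mul, hy, mul_zero]
      exact hxu.ne_zero (this x hx)
    have hu : IsUnit (π (c b₀)) := by
      rw [hμ]
      exact ((isUnit_iff_ne_zero.2 hb₀).map _).mul hxu
    let W : X.Opens := i ⁻¹ᵁ Proj.basicOpen 𝒜' (b₀ : MvPolynomial (Fin (N + 1)) k)
    let res : Γ(X, ⊤) →+* Γ(X, W) := (X.presheaf.map (homOfLE (le_top : W ≤ ⊤)).op).hom
    let := res.toAlgebra
    have : IsLocalization.Away (c b₀) Γ(X, W) :=
      (isAffineOpen_top X).isLocalization_of_eq_basicOpen (c b₀) (homOfLE le_top) (hbasic b₀).symm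
    let π' : Γ(X, W) →+* Γ(X, ⊤) ⧸ K := IsLocalization.Away.lift (c b₀) hu
    have hπ' : ∀ r, π' (res r) = π r := fun r => IsLocalization.Away.lift_eq (c b₀) hu r
    let ψ : Away 𝒜' (b₀ : MvPolynomial (Fin (N + 1)) k) →+* Γ(X, ⊤) ⧸ K :=
      π'.comp (ProjMor.Char.alongHom i (b₀ : MvPolynomial (Fin (N + 1)) k) W le_rfl)
    have hψ0 : ∀ κ : k, ψ (ProjMor.Char.scal 𝒜' _ κ) = algebraMap k (Γ(X, ⊤) ⧸ K) κ := fun κ => by
      have h := toSpecHom_injective ((ProjMor.Rep.along_scal (r := i) (q := q) rfl b₀.2 W le_rfl).trans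
        (ProjMor.Main.toSpecHom_scalOn q W).symm)
      have h' := (ConcreteCategory.bijective_of_isIso W.topIso.inv).1 (DFunLike.congr_fun h κ)
      change π' (ProjMor.Char.alongHom i (b₀ : MvPolynomial (Fin (N + 1)) k) W le_rfl (ProjMor.Char.scal 𝒜' _ κ)) = _
      rw [h']
      exact hπ' _
    have hψ1 : ∀ b : 𝒜' 1, ψ (Away.mk 𝒜' b₀.2 1 (b : MvPolynomial (Fin (N + 1)) k) (by simp)) =
        algebraMap k (Γ(X, ⊤) ⧸ K) (μ b / μ b₀) := fun b => by
      have h : i.appLE _ W le_rfl (fr 𝒜' b₀ b) * res (c b₀) = res (c b) := by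
        refine hinj W _ _ ?_
        rw [mul_smul, ← hres W b₀, ← hres W b]
        exact (ProjMor.Uniq.gl_pullSec_g i b₀ b le_rfl).symm
      have h' := congrArg π' h
      rw [map_mul, hπ', hπ'] at h'
      change π' (i.appLE _ W le_rfl (fr 𝒜' b₀ b)) = _
      refine hu.mul_left_inj.1 (h'.trans ?_)
      rw [hμ, hμ, ← mul_assoc, ← map_mul, div_mul_cancel₀ _ hb₀]
    have hψs : Function.Surjective ψ := by
      have h1 : Function.Surjective π' := fun w => by
        obtain ⟨r, rfl⟩ := Ideal.Quotient.mk_surjective w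
        exact ⟨res r, hπ' r⟩
      have h2 : Function.Surjective (Proj.awayToSection 𝒜' (b₀ : MvPolynomial (Fin (N + 1)) k)) := by
        exact (ConcreteCategory.bijective_of_isIso
          (Proj.basicOpenIsoAway 𝒜' (b₀ : MvPolynomial (Fin (N + 1)) k) b₀.2 one_pos).hom).2
      have h3 : Function.Surjective (i.appLE (Proj.basicOpen 𝒜' (b₀ : MvPolynomial (Fin (N + 1)) k)) W le_rfl) := by
        rw [← Scheme.Hom.app_eq_appLE]
        exact i.app_surjective _ (Proj.isAffineOpen_basicOpen 𝒜' _ b₀.2 one_pos)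
      exact h1.comp (h3.comp h2)
    have heq := ProjMor.Char.away_hom_ext
      (φ := (Algebra.TensorProduct.includeLeft (R := k) (S := k) (A := Γ(X, ⊤) ⧸ K)
        (B := Γ(X, ⊤) ⧸ K)).toRingHom.comp ψ)
      (ψ := (Algebra.TensorProduct.includeRight (R := k) (A := Γ(X, ⊤) ⧸ K)
        (B := Γ(X, ⊤) ⧸ K)).toRingHom.comp ψ)
      (ProjMor.Main.adjoin_degOne (ProjMor.Poly.lin_mem N k) (ProjMor.Poly.adjoin_lin N k)) b₀.2
      (RingHom.ext fun κ => by
        change (ψ (ProjMor.Char.scal 𝒜' _ κ)) ⊗ₜ[k] (1 : Γ(X, ⊤) ⧸ K) = 1 ⊗ₜ ψ (ProjMor.Char.scal 𝒜' _ κ)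
        rw [hψ0]
        simp [Algebra.algebraMap_eq_smul_one, TensorProduct.smul_tmul'])
      (fun b hb => by
        simp only [RingHom.comp_apply]
        rw [hψ1 ⟨b, hb⟩]
        simp)
    refine hnot (scalars_of_tmul fun w => ?_)
    obtain ⟨y, rfl⟩ := hψs w
    simpa using DFunLike.congr_fun heq y
  have hS : V * V ≤ S2 := by
    rw [Submodule.span_mul_span, Submodule.span_le]
    rintro _ ⟨_, ⟨b, rfl⟩, _, ⟨b', rfl⟩, rfl⟩
    exact ⟨_, hmul b b'⟩
  intro t
  obtain ⟨r, hr⟩ := exists_coord hgen2 t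
  obtain ⟨s, hs⟩ := hS (hVV ▸ Submodule.mem_top : r ∈ V * V)
  exact ⟨s, hs.trans hr.symm⟩

end Groth.Agent.H78.TwistTwo
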